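import Cfsg.Agent.GlauberCorr.Subgroups
import Cfsg.Agent.GlauberCorr.HomMult
import Cfsg.Agent.Char.Linear
import Cfsg.Agent.S0886
import Cfsg.Prelude.Def_BlockLocal

/-!
# Characters of subgroups of an ambient group: multiplicities, conjugation, extensions
-/

set_option autoImplicit false
set_option linter.style.haveILetI false
set_option linter.unusedSectionVars false

open scoped ComplexConjugate
open Cfsg.Agent.Char

namespace Cfsg.Agent.RelMcKay

open Subgroup
open Cfsg.Agent.GlauberCorr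

universe u

variable {Γ : Type u} [Group Γ] [Finite Γ]

/-- The multiplicity of `θ` in the restriction of `χ`. -/
noncomputable abbrev rmult {H K : Subgroup Γ} (h : H ≤ K) (χ : IrrCharacter K)
    (θ : IrrCharacter H) : ℕ :=
  homMult (inclusion h) χ θ

/-- `χ` restricts to `θ`. -/
def Restr {H K : Subgroup Γ} (h : H ≤ K) (χ : IrrCharacter K) (θ : IrrCharacter H) : Prop :=
  ∀ x : H, (χ : K → ℂ) (inclusion h x) = (θ : H → ℂ) x

/-- `θ` extends to `K`. -/
def Ext {H K : Subgroup Γ} (h : H ≤ K) (θ : IrrCharacter H) : Prop :=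
  ∃ χ : IrrCharacter K, Restr h χ θ

/-- `g` fixes `θ`. -/
def FixBy {H : Subgroup Γ} (g : Γ) (θ : IrrCharacter H) : Prop :=
  ∀ k k' : H, (k' : Γ) = g * k * g⁻¹ → (θ : H → ℂ) k' = (θ : H → ℂ) k

theorem irr_apply_congr {H : Subgroup Γ} (θ : IrrCharacter H) {a b : H}
    (h : (a : Γ) = (b : Γ)) : (θ : H → ℂ) a = (θ : H → ℂ) b := by
  rw [Subtype.ext h]

/-! ### Multiplicities -/

section Mult

variable {A B D : Subgroup Γ}

theorem rmult_trans (hAB : A ≤ B) (hBD : B ≤ D) (χ : IrrCharacter D)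
    (θ : IrrCharacter A) :
    rmult (hAB.trans hBD) χ θ = ∑ η : IrrCharacter B, rmult hBD χ η * rmult hAB η θ := by
  letI := Fintype.ofFinite B
  exact homMult_comp (inclusion hBD) (inclusion hAB) χ θ

theorem rmult_ne_zero_trans (hAB : A ≤ B) (hBD : B ≤ D) {χ : IrrCharacter D} {η : IrrCharacter B}
    {θ : IrrCharacter A} (h1 : rmult hBD χ η ≠ 0) (h2 : rmult hAB η θ ≠ 0) :
    rmult (hAB.trans hBD) χ θ ≠ 0 :=
  homMult_comp_ne_zero (f := inclusion hBD) (g := inclusion hAB) h1 h2

theorem exists_between (hAB : A ≤ B) (hBD : B ≤ D) {χ : IrrCharacter D} {θ : IrrCharacter A}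
    (h : rmult (hAB.trans hBD) χ θ ≠ 0) :
    ∃ η, rmult hBD χ η ≠ 0 ∧ rmult hAB η θ ≠ 0 :=
  exists_of_homMult_comp (f := inclusion hBD) (g := inclusion hAB) h

theorem rmult_self [DecidableEq (IrrCharacter A)] (χ θ : IrrCharacter A) :
    rmult (le_refl A) χ θ = if χ = θ then 1 else 0 := by
  letI := Fintype.ofFinite A
  refine homMult_eq_of_classInner ?_
  rw [show (fun h : A => (χ : A → ℂ) (inclusion (le_refl A) h)) = (χ : A → ℂ) from rfl,
    classInner_irrCharacter]
  split_ifs <;> simp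

theorem Restr.rmult_eq {hAB : A ≤ B} {χ : IrrCharacter B} {θ : IrrCharacter A}
    (h : Restr hAB χ θ) [DecidableEq (IrrCharacter A)] (φ : IrrCharacter A) :
    rmult hAB χ φ = if θ = φ then 1 else 0 := by
  letI := Fintype.ofFinite A
  refine homMult_eq_of_classInner ?_
  rw [show (fun x : A => (χ : B → ℂ) (inclusion hAB x)) = (θ : A → ℂ) from funext h,
    classInner_irrCharacter]
  split_ifs <;> simp

theorem Restr.rmult_one {hAB : A ≤ B} {χ : IrrCharacter B} {θ : IrrCharacter A}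
    (h : Restr hAB χ θ) : rmult hAB χ θ = 1 := by
  classical
  rw [h.rmult_eq, if_pos rfl]

theorem Restr.eq_of_ne_zero {hAB : A ≤ B} {χ : IrrCharacter B} {θ φ : IrrCharacter A}
    (h : Restr hAB χ θ) (hφ : rmult hAB χ φ ≠ 0) : θ = φ := by
  classical
  rw [h.rmult_eq] at hφ
  by_contra hne
  exact hφ (if_neg hne)

theorem Restr.trans {hAB : A ≤ B} {hBD : B ≤ D} {χ : IrrCharacter D} {η : IrrCharacter B}
    {θ : IrrCharacter A} (h1 : Restr hBD χ η) (h2 : Restr hAB η θ) :
    Restr (hAB.trans hBD) χ θ := fun x => by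
  rw [← h2 x, ← h1 (inclusion hAB x)]
  rfl

/-- An irreducible restriction passes through intermediate subgroups. -/
theorem Restr.exists_mid (hAB : A ≤ B) (hBD : B ≤ D) {χ : IrrCharacter D} {θ : IrrCharacter A}
    (h : Restr (hAB.trans hBD) χ θ) :
    ∃ η : IrrCharacter B, Restr hBD χ η ∧ Restr hAB η θ := by
  let f : B → ℂ := fun b => (χ : D → ℂ) (inclusion hBD b)
  have hc : IsCharacter B f := CharInd.isCharacter_comp (inclusion hBD) (isCharacter_of_irr χ.2)
  have hres : IsIrrCharacter (A.subgroupOf B) fun n : A.subgroupOf B => f n := by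
    rw [show (fun n : A.subgroupOf B => f n) =
      fun n => (θ : A → ℂ) (subgroupOfEquivOfLe hAB n) from funext fun n =>
        h (subgroupOfEquivOfLe hAB n)]
    exact isIrrCharacter_comp θ.2 (subgroupOfEquivOfLe hAB).toMonoidHom
      (subgroupOfEquivOfLe hAB).surjective
  exact ⟨⟨f, irr_of_restrict hc hres⟩, fun _ => rfl, fun x => h x⟩

theorem Ext.mono {hAB : A ≤ B} (hBD : B ≤ D) {θ : IrrCharacter A} (h : Ext (hAB.trans hBD) θ) :
    Ext hAB θ := by
  obtain ⟨χ, hχ⟩ := h
  obtain ⟨η, -, hη⟩ := Restr.exists_mid hAB hBD hχ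
  exact ⟨η, hη⟩

theorem Ext.congr {A' B' : Subgroup Γ} (hA : A = A') (hB : B = B') {hAB : A ≤ B}
    {θ : IrrCharacter A} (h : Ext hAB θ) (θ' : IrrCharacter A')
    (hθ : ∀ (a : A) (a' : A'), (a : Γ) = a' → (θ : A → ℂ) a = (θ' : A' → ℂ) a') :
    Ext (hB ▸ hA ▸ hAB) θ' := by
  subst hA hB
  obtain ⟨χ, hχ⟩ := h
  exact ⟨χ, fun x => (hχ x).trans (hθ x x rfl)⟩

theorem rmult_mod_eq {p : ℕ} (hAB : A ≤ B) (hBD : B ≤ D)
    (χ : IrrCharacter D) (θ : IrrCharacter A) (η₀ : IrrCharacter B)
    (h : ∀ η, η ≠ η₀ → p ∣ rmult hBD χ η * rmult hAB η θ) :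
    (rmult (hAB.trans hBD) χ θ : ZMod p) = (rmult hBD χ η₀ * rmult hAB η₀ θ : ℕ) := by
  classical
  rw [rmult_trans hAB hBD, Nat.cast_sum, Finset.sum_eq_single η₀
    (fun η _ hη => (ZMod.natCast_eq_zero_iff _ _).2 (h η hη))
    (fun h' => absurd (Finset.mem_univ _) h')]

end Mult

/-! ### Conjugation -/

section Conj

variable {H K : Subgroup Γ}

/-- Conjugation of a subgroup by an element normalising it. -/
def cjE {g : Γ} (H : Subgroup Γ) (hg : g ∈ normalizer (H : Set Γ)) : H ≃* H where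
  toFun k := ⟨g * k * g⁻¹, (mem_normalizer_iff.mp hg k).mp k.2⟩
  invFun k := ⟨g⁻¹ * k * g, (mem_normalizer_iff.mp hg _).mpr (by
    rw [show g * (g⁻¹ * k * g) * g⁻¹ = (k : Γ) by group]; exact k.2)⟩
  left_inv k := Subtype.ext (by show g⁻¹ * (g * k * g⁻¹) * g = k; group)
  right_inv k := Subtype.ext (by show g * (g⁻¹ * k * g) * g⁻¹ = k; group)
  map_mul' a b := Subtype.ext (by
    show g * ((a : Γ) * b) * g⁻¹ = g * a * g⁻¹ * (g * b * g⁻¹)
    group)

theorem cjE_coe {g : Γ} (hg : g ∈ normalizer (H : Set Γ)) (k : H) :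
    (cjE H hg k : Γ) = g * k * g⁻¹ := rfl

/-- The conjugate character. -/
noncomputable def cjI {g : Γ} (hg : g ∈ normalizer (H : Set Γ)) (θ : IrrCharacter H) :
    IrrCharacter H :=
  irrComap (cjE H hg) θ

theorem cjI_coe {g : Γ} (hg : g ∈ normalizer (H : Set Γ)) (θ : IrrCharacter H) (k : H) :
    (cjI hg θ : H → ℂ) k = (θ : H → ℂ) (cjE H hg k) := rfl

theorem fixBy_iff {g : Γ} (hg : g ∈ normalizer (H : Set Γ)) (θ : IrrCharacter H) :
    FixBy g θ ↔ cjI hg θ = θ := by
  refine ⟨fun h => Subtype.ext (funext fun k => h k _ rfl), fun h k k' he => ?_⟩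
  have h1 := congrFun (congrArg Subtype.val h) k
  rw [cjI_coe] at h1
  rw [← h1]
  exact irr_apply_congr θ he

theorem rmult_cjI (hHK : H ≤ K) {g : Γ} (hgH : g ∈ normalizer (H : Set Γ))
    (hgK : g ∈ normalizer (K : Set Γ)) (χ : IrrCharacter K) (θ : IrrCharacter H) :
    rmult hHK (cjI hgK χ) (cjI hgH θ) = rmult hHK χ θ := by
  letI := Fintype.ofFinite H
  refine homMult_eq_of_classInner ?_
  rw [← classInner_comp_eq_homMult]
  exact classInner_comp_surjective (cjE H hgH).toMonoidHom (cjE H hgH).surjective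
    (fun h => (χ : K → ℂ) (inclusion hHK h)) _

theorem cjI_congr {g g' : Γ} (e : g = g') (hg : g ∈ normalizer (H : Set Γ))
    (hg' : g' ∈ normalizer (H : Set Γ)) (θ : IrrCharacter H) : cjI hg θ = cjI hg' θ := by
  subst e; rfl

theorem fixBy_one (θ : IrrCharacter H) : FixBy (1 : Γ) θ := fun k k' he =>
  irr_apply_congr θ (by simpa using he)

theorem fixBy_mul {g g' : Γ} (hg' : g' ∈ normalizer (H : Set Γ)) {θ : IrrCharacter H}
    (h : FixBy g θ) (h' : FixBy g' θ) : FixBy (g * g') θ := fun k k' he => by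
  rw [h (cjE H hg' k) k' (by rw [he, cjE_coe]; group)]
  exact h' k _ rfl

theorem fixBy_inv {g : Γ} (hg : g ∈ normalizer (H : Set Γ)) {θ : IrrCharacter H}
    (h : FixBy g θ) : FixBy g⁻¹ θ := fun k k' he =>
  (h k' k (by rw [he]; group)).symm

theorem fixBy_of_mem {g : Γ} (hg : g ∈ H) (θ : IrrCharacter H) : FixBy g θ := fun k k' he => by
  rw [show k' = ⟨g, hg⟩ * k * ⟨g, hg⟩⁻¹ from Subtype.ext (by simpa using he)]
  exact irr_isClassFunction θ.2 k ⟨g, hg⟩

/-- The stabiliser of a character. -/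
def stab (θ : IrrCharacter H) : Subgroup Γ where
  carrier := {g | g ∈ normalizer (H : Set Γ) ∧ FixBy g θ}
  one_mem' := ⟨one_mem _, fixBy_one θ⟩
  mul_mem' := fun ha hb => ⟨mul_mem ha.1 hb.1, fixBy_mul hb.1 ha.2 hb.2⟩
  inv_mem' := fun ha => ⟨inv_mem ha.1, fixBy_inv ha.1 ha.2⟩

theorem mem_stab {θ : IrrCharacter H} {g : Γ} :
    g ∈ stab θ ↔ g ∈ normalizer (H : Set Γ) ∧ FixBy g θ := Iff.rfl

theorem le_stab_self (θ : IrrCharacter H) : H ≤ stab θ := fun g hg =>
  ⟨le_normalizer hg, fixBy_of_mem hg θ⟩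

theorem fixBy_restr {hHK : H ≤ K} {χ : IrrCharacter K} {θ : IrrCharacter H} (h : Restr hHK χ θ)
    {g : Γ} (hgχ : FixBy g χ) : FixBy g θ := fun k k' he => by
  rw [← h k, ← h k']
  exact hgχ _ _ he

end Conj

/-! ### Linear twists -/

section Twist

variable {K L : Subgroup Γ}

/-- A linear character times an irreducible one. -/
noncomputable def twist (η : IrrCharacter L) (f : L →* ℂˣ) : IrrCharacter L :=
  ⟨fun x => (f x : ℂ) * (η : L → ℂ) x, isIrrCharacter_mul_monoidHom η.2 f⟩

theorem twist_coe (η : IrrCharacter L) (f : L →* ℂˣ) (x : L) :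
    (twist η f : L → ℂ) x = (f x : ℂ) * (η : L → ℂ) x := rfl

theorem restr_twist {hKL : K ≤ L} {η : IrrCharacter L} {θ : IrrCharacter K} (h : Restr hKL η θ)
    {f : L →* ℂˣ} (hf : ∀ k : K, f (inclusion hKL k) = 1) : Restr hKL (twist η f) θ := fun k => by
  rw [twist_coe, hf, Units.val_one, one_mul, h]

/-- An extension does not vanish on a whole coset. -/
theorem exists_ne_zero_coset {hKL : K ≤ L} (hn : L ≤ normalizer (K : Set Γ)) {η : IrrCharacter L}
    {θ : IrrCharacter K} (h : Restr hKL η θ) (g : L) :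
    ∃ k : K, (η : L → ℂ) (inclusion hKL k * g) ≠ 0 := by
  classical
  letI := Fintype.ofFinite L
  let N := K.subgroupOf L
  haveI : N.Normal := normal_subgroupOf_of_le_normalizer hn
  letI := Fintype.ofFinite N
  have hres : IsIrrCharacter N fun n : N => (η : L → ℂ) n := by
    rw [show (fun n : N => (η : L → ℂ) n) = fun n => (θ : K → ℂ) (subgroupOfEquivOfLe hKL n) from
      funext fun n => h (subgroupOfEquivOfLe hKL n)]
    exact isIrrCharacter_comp θ.2 (subgroupOfEquivOfLe hKL).toMonoidHom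
      (subgroupOfEquivOfLe hKL).surjective
  have h1 := congrFun (CharExt.avgN_normSq_eq_one N _ η.2 hres) g
  by_contra hcon
  push Not at hcon
  rw [CharExt.avgN, Finset.sum_eq_zero fun n _ => ?_, mul_zero] at h1
  · exact zero_ne_one h1
  · have := hcon (subgroupOfEquivOfLe hKL n)
    rw [show inclusion hKL (subgroupOfEquivOfLe hKL n) = (n : L) from rfl] at this
    simp [this]

theorem twist_inj {hKL : K ≤ L} (hn : L ≤ normalizer (K : Set Γ)) {η : IrrCharacter L}
    {θ : IrrCharacter K} (h : Restr hKL η θ) {f f' : L →* ℂˣ}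
    (hf : ∀ k : K, f (inclusion hKL k) = 1) (hf' : ∀ k : K, f' (inclusion hKL k) = 1)
    (he : twist η f = twist η f') : f = f' := by
  refine MonoidHom.ext fun g => Units.ext ?_
  obtain ⟨k, hk⟩ := exists_ne_zero_coset hn h g
  have h1 := congrFun (congrArg Subtype.val he) (inclusion hKL k * g)
  simp only [twist_coe, map_mul, hf, hf', one_mul] at h1
  exact mul_right_cancel₀ hk h1

/-- Commutators of `L` lie in `K`. -/
def AbMod (K L : Subgroup Γ) : Prop := ∀ a ∈ L, ∀ b ∈ L, a * b * a⁻¹ * b⁻¹ ∈ K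

theorem AbMod.normal (h : AbMod K L) (hKL : K ≤ L) : L ≤ normalizer (K : Set Γ) := fun g hg => by
  rw [mem_normalizer_iff]
  intro k
  refine ⟨fun hk => ?_, fun hk => ?_⟩
  · have h1 := mul_mem (h g hg k (hKL hk)) hk
    rwa [inv_mul_cancel_right] at h1
  · have h2 : g⁻¹ * (g * k * g⁻¹) * g⁻¹⁻¹ = k := by group
    have h1 := mul_mem (h g⁻¹ (inv_mem hg) _ (hKL hk)) hk
    rw [inv_mul_cancel_right, h2] at h1
    exact h1

theorem AbMod.quot_comm (h : AbMod K L) (hKL : K ≤ L) :
    haveI : (K.subgroupOf L).Normal := normal_subgroupOf_of_le_normalizer (h.normal hKL)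
    ∀ a b : L ⧸ K.subgroupOf L, a * b = b * a := by
  haveI : (K.subgroupOf L).Normal := normal_subgroupOf_of_le_normalizer (h.normal hKL)
  intro a b
  induction a using QuotientGroup.induction_on with
  | _ a =>
  induction b using QuotientGroup.induction_on with
  | _ b =>
    rw [← QuotientGroup.mk_mul, ← QuotientGroup.mk_mul, eq_comm, QuotientGroup.eq]
    show (((b * a)⁻¹ * (a * b) : L) : Γ) ∈ K
    have h1 := h _ (inv_mem a.2) _ (inv_mem b.2)
    simpa [mul_assoc] using h1

/-- Every character over an extendible one is a twist of the extension. -/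
theorem exists_twist {hKL : K ≤ L} (hab : AbMod K L) {η χ : IrrCharacter L} {θ : IrrCharacter K}
    (h : Restr hKL η θ) (hχ : rmult hKL χ θ ≠ 0) :
    ∃ f : L →* ℂˣ, (∀ k : K, f (inclusion hKL k) = 1) ∧ χ = twist η f := by
  haveI : (K.subgroupOf L).Normal := normal_subgroupOf_of_le_normalizer (hab.normal hKL)
  let e : K.subgroupOf L ≃* K := subgroupOfEquivOfLe hKL
  have hover : homMult (K.subgroupOf L).subtype χ (irrComap e θ) ≠ 0 := by
    rw [show (K.subgroupOf L).subtype = (inclusion hKL).comp e.toMonoidHom from rfl,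
      homMult_comp_equiv]
    exact hχ
  obtain ⟨β, hβ⟩ := exists_gallagher (K.subgroupOf L) (irrComap e θ) η
    (fun n => h (e n)) χ hover
  obtain ⟨f, hf⟩ := irr_exists_monoidHom_of_comm (hab.quot_comm hKL) β.2
  refine ⟨f.comp (QuotientGroup.mk' _), fun k => ?_, Subtype.ext (funext fun x => ?_)⟩
  · show f ((inclusion hKL k : L) : L ⧸ K.subgroupOf L) = 1
    rw [(QuotientGroup.eq_one_iff _).2 (show inclusion hKL k ∈ K.subgroupOf L from k.2), map_one]
  · rw [twist_coe, hβ x, hf]
    rfl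

/-- Linear characters of `L` trivial on `K`. -/
def trivHoms (hKL : K ≤ L) : Type u := {f : L →* ℂˣ // ∀ k : K, f (inclusion hKL k) = 1}

theorem finite_trivHoms (hKL : K ≤ L) : Finite (trivHoms hKL) := by
  haveI := monoidHom_complex_finite (G := L)
  exact Subtype.finite

theorem card_trivHoms {hKL : K ≤ L} (hab : AbMod K L) :
    Nat.card (trivHoms hKL) = K.relIndex L := by
  haveI : (K.subgroupOf L).Normal := normal_subgroupOf_of_le_normalizer (hab.normal hKL)
  have hc : commutator (L ⧸ K.subgroupOf L) = ⊥ := by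
    rw [commutator_def, eq_bot_iff, commutator_le]
    intro a _ b _
    rw [mem_bot, commutatorElement_def, hab.quot_comm hKL a b, mul_inv_cancel_right,
      mul_inv_cancel]
  rw [show K.relIndex L = (commutator (L ⧸ K.subgroupOf L)).index by
    rw [hc, index_bot]; rfl, ← card_monoidHom_complex]
  refine Nat.card_congr
    { toFun := fun f => QuotientGroup.lift _ f.1 fun x hx => f.2 ⟨(x : Γ), hx⟩
      invFun := fun f => ⟨f.comp (QuotientGroup.mk' _), fun k => by
        show f ((inclusion hKL k : L) : L ⧸ K.subgroupOf L) = 1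
        rw [(QuotientGroup.eq_one_iff _).2 (show inclusion hKL k ∈ K.subgroupOf L from k.2),
          map_one]⟩
      left_inv := fun f => Subtype.ext (MonoidHom.ext fun x => rfl)
      right_inv := fun f => QuotientGroup.monoidHom_ext _ (MonoidHom.ext fun x => rfl) }

end Twist

/-! ### Extensions over invariant characters -/

section Over

variable {K L : Subgroup Γ}

/-- If an invariant `θ` has as many characters of `L` over it as the index, they all extend it. -/
theorem all_extend (hKL : K ≤ L) (hn : L ≤ normalizer (K : Set Γ)) {θ : IrrCharacter K}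
    (hinv : ∀ g ∈ L, FixBy g θ) {ι : Type*} [Finite ι] (F : ι → IrrCharacter L)
    (hF : Function.Injective F) (hover : ∀ i, rmult hKL (F i) θ ≠ 0)
    (hcard : K.relIndex L ≤ Nat.card ι) : ∀ i, Restr hKL (F i) θ := by
  classical
  letI := Fintype.ofFinite L
  letI := Fintype.ofFinite ι
  let N := K.subgroupOf L
  haveI : N.Normal := normal_subgroupOf_of_le_normalizer hn
  letI := Fintype.ofFinite N
  let e : N ≃* K := subgroupOfEquivOfLe hKL
  let θ' : IrrCharacter N := irrComap e θ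
  have hcj : ∀ x : L, CharInd.conjChar N x (θ' : N → ℂ) = (θ' : N → ℂ) := fun x =>
    funext fun n => by
      rw [CharInd.conjChar_apply]
      exact hinv x x.2 (e n) _ rfl
  have hm : ∀ χ : IrrCharacter L,
      classInner (fun n : N => (χ : L → ℂ) n) (θ' : N → ℂ) = (rmult hKL χ θ : ℂ) := fun χ => by
    rw [show (fun n : N => (χ : L → ℂ) n) = fun n : N => (χ : L → ℂ) (N.subtype n) from rfl,
      classInner_comp_eq_homMult, show N.subtype = (inclusion hKL).comp e.toMonoidHom from rfl,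
      homMult_comp_equiv]
  have hnorm := CharInd.card_mul_classInner_indFun_normal N (θ' : N → ℂ) (θ' : N → ℂ)
  simp only [hcj, classInner_irr_self θ'.2, Finset.sum_const, Finset.card_univ, nsmul_eq_mul,
    mul_one] at hnorm
  rw [classInner_eq_sum_mul_conj (CharInd.indFun_isClassFunction N _)] at hnorm
  have hterm : ∀ χ : IrrCharacter L,
      classInner (Cfsg.indFun N (θ' : N → ℂ)) (χ : L → ℂ) = (rmult hKL χ θ : ℂ) := fun χ => by
    rw [CharInd.classInner_indFun_left N _ (irr_isClassFunction χ.2), ← classInner_conj, hm,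
      map_natCast]
  simp only [hterm, map_natCast] at hnorm
  have hsum : Nat.card N * ∑ χ : IrrCharacter L, rmult hKL χ θ * rmult hKL χ θ = Nat.card L := by
    rw [← Nat.card_eq_fintype_card] at hnorm
    exact_mod_cast hnorm
  rw [← N.card_mul_index, mul_right_inj' Nat.card_pos.ne'] at hsum
  have hle : ∑ i, rmult hKL (F i) θ * rmult hKL (F i) θ ≤ K.relIndex L := by
    refine le_of_le_of_eq ?_ hsum
    rw [← Finset.sum_image (f := fun χ => rmult hKL χ θ * rmult hKL χ θ) fun a _ b _ h => hF h]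
    exact Finset.sum_le_sum_of_subset (Finset.subset_univ _)
  have hone : ∀ i, rmult hKL (F i) θ = 1 := by
    intro i
    by_contra hne
    have h2 : ∑ _j : ι, 1 < ∑ j, rmult hKL (F j) θ * rmult hKL (F j) θ := by
      refine Finset.sum_lt_sum (fun j _ => ?_) ⟨i, Finset.mem_univ i, ?_⟩
      · exact Nat.mul_pos (Nat.pos_of_ne_zero (hover j)) (Nat.pos_of_ne_zero (hover j))
      · have := hover i
        nlinarith [show 2 ≤ rmult hKL (F i) θ by omega]
    rw [Finset.sum_const, smul_eq_mul, mul_one, Finset.card_univ,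
      ← Nat.card_eq_fintype_card] at h2
    omega
  intro i k
  have hc := CharInd.clifford N (F i).2 θ'.2 (by rw [hm, hone]; simp)
  rw [hm, hone, Nat.cast_one, one_smul] at hc
  have hcl : CharInd.conjClass N (θ' : N → ℂ) = {(θ' : N → ℂ)} := by
    ext ψ
    rw [CharInd.mem_conjClass, Finset.mem_singleton]
    exact ⟨fun ⟨x, hx⟩ => hx.trans (hcj x), fun h => ⟨1, h.trans (hcj 1).symm⟩⟩
  rw [hcl, Finset.sum_singleton] at hc
  exact congrFun hc (e.symm k)

/-- An invariant character extends over a cyclic quotient. -/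
theorem ext_cyclic (hKL : K ≤ L) (hn : L ≤ normalizer (K : Set Γ)) (g₀ : Γ) (hg₀ : g₀ ∈ L)
    (hgen : L ≤ K ⊔ zpowers g₀) {θ : IrrCharacter K} (hfix : FixBy g₀ θ) : Ext hKL θ := by
  classical
  let N := K.subgroupOf L
  haveI : N.Normal := normal_subgroupOf_of_le_normalizer hn
  let e : N ≃* K := subgroupOfEquivOfLe hKL
  have hstab : L ≤ stab θ := hgen.trans (sup_le (le_stab_self θ)
    ((zpowers_le).2 ⟨hn hg₀, hfix⟩))
  have hcyc : IsCyclic (L ⧸ N) := by
    refine ⟨⟨((⟨g₀, hg₀⟩ : L) : L ⧸ N), fun q => ?_⟩⟩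
    induction q using QuotientGroup.induction_on with
    | _ x =>
      have h : L ≤ ((zpowers ((⟨g₀, hg₀⟩ : L) : L ⧸ N)).comap (QuotientGroup.mk' N)).map
          L.subtype := by
        refine hgen.trans (sup_le (fun k hk => ⟨⟨k, hKL hk⟩, ?_, rfl⟩)
          (zpowers_le.2 ⟨⟨g₀, hg₀⟩, mem_zpowers _, rfl⟩))
        show QuotientGroup.mk' N ⟨k, hKL hk⟩ ∈ zpowers _
        rw [QuotientGroup.mk'_apply, (QuotientGroup.eq_one_iff _).2
          (show (⟨k, hKL hk⟩ : L) ∈ N from hk)]
        exact one_mem _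
      obtain ⟨y, hy, hyx⟩ := h x.2
      rw [show y = x from Subtype.ext hyx] at hy
      exact mem_zpowers_iff.1 hy
  obtain ⟨χ, hχ, hres⟩ := Cfsg.Agent.S0886.result N hcyc (irrComap e θ : N → ℂ) (irrComap e θ).2
    fun g n => (hstab g.2).2 (e n) _ rfl
  exact ⟨⟨χ, hχ⟩, fun k => hres (e.symm k)⟩

end Over

end Cfsg.Agent.RelMcKay
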