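import Cfsg.Agent.RelMcKay.Key

/-!
# Counting the characters over an invariant character by good classes
-/

set_option autoImplicit false
set_option linter.style.haveILetI false
set_option linter.unusedSectionVars false

open scoped ComplexConjugate
open Cfsg.Agent.Char

namespace Cfsg.Agent.RelMcKay

open Subgroup
open Cfsg.Agent.GlauberCorr

universe u

variable {Γ : Type u} [Group Γ] [Finite Γ]

/-- `y` is good for `ξ`: an extension to `M ⟨y⟩` is fixed by all elements of `H` commuting with `y`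
modulo `M`. -/
def IsGood (M H : Subgroup Γ) (ξ : IrrCharacter M) (y : Γ) : Prop :=
  ∃ η : IrrCharacter (M ⊔ zpowers y : Subgroup Γ), Restr le_sup_left η ξ ∧
    ∀ x ∈ H, x * y * x⁻¹ * y⁻¹ ∈ M → FixBy x η

/-- The class of `y` in `H` modulo `C`. -/
def cls (C H : Subgroup Γ) (y : Γ) : Set Γ :=
  {z | z ∈ H ∧ ∃ x ∈ H, x * y * x⁻¹ * z⁻¹ ∈ C}

/-- The classes with a given property. -/
def goodClasses (C H : Subgroup Γ) (P : Γ → Prop) : Set (Set Γ) :=
  {s | ∃ y ∈ H, P y ∧ s = cls C H y}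

theorem goodClasses_congr {C H : Subgroup Γ} {P Q : Γ → Prop} (h : ∀ y ∈ H, (P y ↔ Q y)) :
    goodClasses C H P = goodClasses C H Q := by
  ext s
  exact ⟨fun ⟨y, hy, hP, hs⟩ => ⟨y, hy, (h y hy).1 hP, hs⟩,
    fun ⟨y, hy, hP, hs⟩ => ⟨y, hy, (h y hy).2 hP, hs⟩⟩

theorem card_eq_of_mutual_span {V : Type*} [AddCommGroup V] [Module ℂ V] {ι κ : Type*}
    [Finite ι] [Finite κ] {a : ι → V} {b : κ → V} (ha : LinearIndependent ℂ a)
    (hb : LinearIndependent ℂ b) (hab : ∀ i, a i ∈ Submodule.span ℂ (Set.range b))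
    (hba : ∀ j, b j ∈ Submodule.span ℂ (Set.range a)) : Nat.card ι = Nat.card κ := by
  letI := Fintype.ofFinite ι
  letI := Fintype.ofFinite κ
  have he : Submodule.span ℂ (Set.range a) = Submodule.span ℂ (Set.range b) :=
    le_antisymm (Submodule.span_le.2 (by rintro _ ⟨i, rfl⟩; exact hab i))
      (Submodule.span_le.2 (by rintro _ ⟨i, rfl⟩; exact hba i))
  rw [Nat.card_eq_fintype_card, Nat.card_eq_fintype_card, ← finrank_span_eq_card ha,
    ← finrank_span_eq_card hb, he]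

/-- An element of a coset times `y` lies in `M ⟨y⟩`. -/
theorem mem_coset_sup {M : Subgroup Γ} {y u : Γ} (h : u * y⁻¹ ∈ M) :
    u ∈ M ⊔ zpowers y := by
  rw [show u = u * y⁻¹ * y by group]
  exact mul_mem (mem_sup_left h) (mem_sup_right (mem_zpowers y))

open scoped Classical in
/-- A character supported on one coset. -/
noncomputable def cosetFun (M T : Subgroup Γ) (y : Γ)
    (η : IrrCharacter (M ⊔ zpowers y : Subgroup Γ)) (u : T) : ℂ :=
  if h : (u : Γ) * y⁻¹ ∈ M then (η : (M ⊔ zpowers y : Subgroup Γ) → ℂ) ⟨u, mem_coset_sup h⟩ else 0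

section Setting

variable {M T H : Subgroup Γ} (hMT : M ≤ T) (hTn : T ≤ normalizer (M : Set Γ)) (hHT : H ≤ T)
  {ξ : IrrCharacter M} (hinv : ∀ g ∈ T, FixBy g ξ)

include hMT hTn hinv in
theorem over_unique {χ : IrrCharacter T} (h : rmult hMT χ ξ ≠ 0) {φ : IrrCharacter M}
    (hφ : rmult hMT χ φ ≠ 0) : φ = ξ := by
  classical
  letI := Fintype.ofFinite T
  let N := M.subgroupOf T
  haveI : N.Normal := normal_subgroupOf_of_le_normalizer hTn
  letI := Fintype.ofFinite N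
  let e : N ≃* M := subgroupOfEquivOfLe hMT
  have hm : ∀ ψ : IrrCharacter M, classInner (fun n : N => (χ : T → ℂ) n)
      (irrComap e ψ : N → ℂ) = (rmult hMT χ ψ : ℂ) := fun ψ => by
    rw [show (fun n : N => (χ : T → ℂ) n) = fun n : N => (χ : T → ℂ) (N.subtype n) from rfl,
      classInner_comp_eq_homMult, show N.subtype = (inclusion hMT).comp e.toMonoidHom from rfl,
      homMult_comp_equiv]
  have hc := CharInd.clifford N χ.2 (irrComap e ξ).2 (by rw [hm]; exact_mod_cast h)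
  by_contra hne
  refine hφ ((Nat.cast_eq_zero (R := ℂ)).1 ?_)
  rw [← hm φ, hc, classInner_smul_left, classInner_sum_left]
  refine mul_eq_zero_of_right _ (Finset.sum_eq_zero fun ψ hψ => ?_)
  obtain ⟨x, rfl⟩ := (CharInd.mem_conjClass N).1 hψ
  refine classInner_irr_ne (CharInd.conjChar_irr N x (irrComap e ξ).2) (irrComap e φ).2
    fun he => hne ?_
  refine Subtype.ext (funext fun k => ?_)
  have h1 := congrFun he (e.symm k)
  rw [irrComap_coe, MulEquiv.apply_symm_apply] at h1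
  rw [← h1, CharInd.conjChar_apply, irrComap_coe]
  exact hinv x x.2 k _ rfl

include hMT hTn hinv in
/-- On a coset a character over `ξ` is proportional to any extension. -/
theorem over_eq_mul {χ : IrrCharacter T} (h : rmult hMT χ ξ ≠ 0) {y : Γ} (hy : y ∈ T)
    {η : IrrCharacter (M ⊔ zpowers y : Subgroup Γ)} (hη : Restr le_sup_left η ξ) :
    ∃ a : ℂ, ∀ (u : T) (hu : (u : Γ) * y⁻¹ ∈ M),
      (χ : T → ℂ) u = a * (η : (M ⊔ zpowers y : Subgroup Γ) → ℂ) ⟨u, mem_coset_sup hu⟩ := by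
  classical
  have hLT : (M ⊔ zpowers y : Subgroup Γ) ≤ T := sup_le hMT (zpowers_le.2 hy)
  letI := Fintype.ofFinite (M ⊔ zpowers y : Subgroup Γ)
  have hab : AbMod M (M ⊔ zpowers y : Subgroup Γ) := abMod_sup ((zpowers_le.2 hy).trans hTn) fun a ha b hb => by
    obtain ⟨i, rfl⟩ := mem_zpowers_iff.1 ha
    obtain ⟨j, rfl⟩ := mem_zpowers_iff.1 hb
    rw [show y ^ i * y ^ j * (y ^ i)⁻¹ * (y ^ j)⁻¹ = 1 by group]
    exact one_mem _
  let y' : (M ⊔ zpowers y : Subgroup Γ) := ⟨y, mem_sup_right (mem_zpowers y)⟩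
  have hψ : ∀ ψ : IrrCharacter (M ⊔ zpowers y : Subgroup Γ), rmult hLT χ ψ ≠ 0 →
      ∃ f : (M ⊔ zpowers y : Subgroup Γ) →* ℂˣ, ψ = twist η f ∧ ∀ k : M, f (inclusion le_sup_left k) = 1 := by
    intro ψ hψ
    letI := Fintype.ofFinite M
    obtain ⟨φ, k, hk, hφ⟩ := exists_irr_constituent
      (CharInd.isCharacter_comp (inclusion (le_sup_left : M ≤ (M ⊔ zpowers y : Subgroup Γ))) (isCharacter_of_irr ψ.2))
      (fun h0 => irr_one_ne_zero ψ.2 (by
        have := congrFun h0 1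
        simpa using this))
    have hm : rmult (le_sup_left : M ≤ (M ⊔ zpowers y : Subgroup Γ)) ψ φ = k := homMult_eq_of_classInner hφ
    have hk0 : rmult (le_sup_left : M ≤ (M ⊔ zpowers y : Subgroup Γ)) ψ φ ≠ 0 := hm ▸ hk.ne'
    obtain rfl := over_unique hMT hTn hinv h (rmult_ne_zero_trans le_sup_left hLT hψ hk0)
    obtain ⟨f, hf, he⟩ := exists_twist hab hη hk0
    exact ⟨f, he, hf⟩
  choose! f hf hf1 using hψ
  refine ⟨∑ ψ : IrrCharacter (M ⊔ zpowers y : Subgroup Γ), (rmult hLT χ ψ : ℂ) * ((f ψ y' : ℂˣ) : ℂ), fun u hu => ?_⟩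
  have h1 := congrFun (comp_eq_sum_homMult (inclusion hLT) χ) ⟨u, mem_coset_sup hu⟩
  rw [Finset.sum_apply] at h1
  rw [show (χ : T → ℂ) u = (χ : T → ℂ) (inclusion hLT ⟨u, mem_coset_sup hu⟩) from rfl, h1,
    Finset.sum_mul]
  refine Finset.sum_congr rfl fun ψ _ => ?_
  rw [Pi.smul_apply, smul_eq_mul, mul_assoc]
  by_cases hz : rmult hLT χ ψ = 0
  · rw [show homMult (inclusion hLT) χ ψ = 0 from hz,
      show rmult hLT χ ψ = 0 from hz, Nat.cast_zero, zero_mul, zero_mul]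
  · congr 1
    conv_lhs => rw [hf ψ hz]
    rw [twist_coe]
    congr 2
    rw [show (⟨u, mem_coset_sup hu⟩ : (M ⊔ zpowers y : Subgroup Γ)) = inclusion le_sup_left (⟨_, hu⟩ : M) * y' from
      Subtype.ext (by simp [y']), map_mul, hf1 ψ hz, one_mul]

include hMT hTn hinv in
theorem classInner_cosetFun [Fintype T] {y : Γ} (hy : y ∈ T)
    {η : IrrCharacter (M ⊔ zpowers y : Subgroup Γ)} (hη : Restr le_sup_left η ξ)
    {χ : IrrCharacter T} (h : rmult hMT χ ξ = 0) :
    ∑ u : T, cosetFun M T y η u * conj ((χ : T → ℂ) u) = 0 := by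
  classical
  have hLT : (M ⊔ zpowers y : Subgroup Γ) ≤ T := sup_le hMT (zpowers_le.2 hy)
  have hML : M ≤ (M ⊔ zpowers y : Subgroup Γ) := le_sup_left
  letI := Fintype.ofFinite (M ⊔ zpowers y : Subgroup Γ)
  have hab : AbMod M (M ⊔ zpowers y : Subgroup Γ) := abMod_sup ((zpowers_le.2 hy).trans hTn) fun a ha b hb => by
    obtain ⟨i, rfl⟩ := mem_zpowers_iff.1 ha
    obtain ⟨j, rfl⟩ := mem_zpowers_iff.1 hb
    rw [show y ^ i * y ^ j * (y ^ i)⁻¹ * (y ^ j)⁻¹ = 1 by group]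
    exact one_mem _
  let N := M.subgroupOf (M ⊔ zpowers y : Subgroup Γ)
  haveI : N.Normal := normal_subgroupOf_of_le_normalizer (hab.normal hML)
  letI := Fintype.ofFinite N
  let ind : (M ⊔ zpowers y : Subgroup Γ) → ℂ := fun l => if (l : Γ) * y⁻¹ ∈ M then 1 else 0
  -- restrict the sum to `(M ⊔ zpowers y : Subgroup Γ)`
  have hsum : ∑ u : T, cosetFun M T y η u * conj ((χ : T → ℂ) u) =
      ∑ l : (M ⊔ zpowers y : Subgroup Γ), (ind l * (η : (M ⊔ zpowers y : Subgroup Γ) → ℂ) l) * conj ((χ : T → ℂ) (inclusion hLT l)) := by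
    refine Eq.symm (Fintype.sum_of_injective (inclusion hLT) (inclusion_injective hLT) _ _
      (fun u hu => ?_) fun l => ?_)
    · rw [cosetFun, dif_neg fun hc => hu ⟨⟨u, mem_coset_sup hc⟩, rfl⟩, zero_mul]
    · simp only [cosetFun, ind]
      by_cases hl : (l : Γ) * y⁻¹ ∈ M
      · rw [if_pos hl, dif_pos (show ((inclusion hLT l : T) : Γ) * y⁻¹ ∈ M from hl), one_mul]
        rfl
      · rw [if_neg hl, dif_neg (show ¬ ((inclusion hLT l : T) : Γ) * y⁻¹ ∈ M from hl)]
        simp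
  have hindN : ∀ (n : N) (l : (M ⊔ zpowers y : Subgroup Γ)), ind ((n : (M ⊔ zpowers y : Subgroup Γ)) * l) = ind l := fun n l => by
    simp only [ind, Subgroup.coe_mul, mul_assoc]
    exact if_congr (M.mul_mem_cancel_left n.2) rfl rfl
  have hindc : IsClassFunction (M ⊔ zpowers y : Subgroup Γ) ind := fun l g => by
    have hn : (g : Γ) * l * (g : Γ)⁻¹ * (l : Γ)⁻¹ ∈ M := hab _ g.2 _ l.2
    have h1 := hindN ⟨⟨_, hML hn⟩, hn⟩ l
    rw [← h1]
    exact congrArg ind (Subtype.ext (by simp))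
  have hzero : ∀ β : IrrCharacter (M ⊔ zpowers y : Subgroup Γ), classInner ind (β : (M ⊔ zpowers y : Subgroup Γ) → ℂ) ≠ 0 →
      ∀ (n : N) (l : (M ⊔ zpowers y : Subgroup Γ)), (β : (M ⊔ zpowers y : Subgroup Γ) → ℂ) ((n : (M ⊔ zpowers y : Subgroup Γ)) * l) = (β : (M ⊔ zpowers y : Subgroup Γ) → ℂ) l := by
    intro β hβ n l
    rw [← CharExt.avgN_of_inv N ind hindN, CharExt.classInner_avgN, CharExt.avgN_irr N β.2,
      CharInd.classInner_smul_right, mul_ne_zero_iff, map_ne_zero] at hβ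
    have h1 := congrFun (CharExt.avgN_irr N β.2) ((n : (M ⊔ zpowers y : Subgroup Γ)) * l)
    have h2 := congrFun (CharExt.avgN_irr N β.2) l
    rw [CharExt.avgN_mul] at h1
    exact mul_left_cancel₀ hβ.1 (h1.symm.trans h2)
  have hres : IsIrrCharacter N fun n : N => (η : (M ⊔ zpowers y : Subgroup Γ) → ℂ) n := by
    rw [show (fun n : N => (η : (M ⊔ zpowers y : Subgroup Γ) → ℂ) n) = fun n => (ξ : M → ℂ) (subgroupOfEquivOfLe hML n) from
      funext fun n => hη (subgroupOfEquivOfLe hML n)]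
    exact isIrrCharacter_comp ξ.2 (subgroupOfEquivOfLe hML).toMonoidHom
      (subgroupOfEquivOfLe hML).surjective
  have hkey : ∀ ψ : IrrCharacter (M ⊔ zpowers y : Subgroup Γ), rmult hLT χ ψ ≠ 0 →
      classInner (fun l => ind l * (η : (M ⊔ zpowers y : Subgroup Γ) → ℂ) l) (ψ : (M ⊔ zpowers y : Subgroup Γ) → ℂ) = 0 := by
    intro ψ hψ
    rw [show (fun l => ind l * (η : (M ⊔ zpowers y : Subgroup Γ) → ℂ) l) =
      ∑ β : IrrCharacter (M ⊔ zpowers y : Subgroup Γ), classInner ind (β : (M ⊔ zpowers y : Subgroup Γ) → ℂ) • ((β : (M ⊔ zpowers y : Subgroup Γ) → ℂ) * (η : (M ⊔ zpowers y : Subgroup Γ) → ℂ)) from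
      funext fun l => by
        conv_lhs => rw [congrFun (eq_sum_classInner_smul hindc) l, Finset.sum_apply, Finset.sum_mul]
        rw [Finset.sum_apply]
        exact Finset.sum_congr rfl fun β _ => by simp [mul_assoc],
      classInner_sum_left]
    refine Finset.sum_eq_zero fun β _ => ?_
    rw [classInner_smul_left]
    by_cases hβ : classInner ind (β : (M ⊔ zpowers y : Subgroup Γ) → ℂ) = 0
    · rw [hβ, zero_mul]
    refine mul_eq_zero_of_right _ (classInner_irr_ne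
      (CharExt.isIrrCharacter_mul N _ η.2 hres β.2 (hzero β hβ)) ψ.2 fun he => ?_)
    -- otherwise `ψ` is over `ξ`
    have h3 : rmult hML ψ ξ ≠ 0 := by
      obtain ⟨d, hd0, hd⟩ := irr_one_pos β.2
      letI := Fintype.ofFinite M
      refine fun hz => hd0.ne' ((Nat.cast_eq_zero (R := ℂ)).1 ?_)
      have h4 := classInner_comp_eq_homMult (inclusion hML) ψ ξ
      rw [show homMult (inclusion hML) ψ ξ = rmult hML ψ ξ from rfl, hz, Nat.cast_zero,
        show (fun k : M => (ψ : (M ⊔ zpowers y : Subgroup Γ) → ℂ) (inclusion hML k)) = (d : ℂ) • (ξ : M → ℂ) from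
          funext fun k => by
            have h5 := hzero β hβ ⟨inclusion hML k, k.2⟩ 1
            rw [mul_one, hd] at h5
            rw [← he, Pi.mul_apply, h5, hη k, Pi.smul_apply, smul_eq_mul],
        classInner_smul_left, classInner_irr_self ξ.2, mul_one] at h4
      exact h4
    exact rmult_ne_zero_trans hML hLT hψ h3 h
  rw [hsum, sum_mul_conj_eq_card_mul_classInner
    (fun l => ind l * (η : (M ⊔ zpowers y : Subgroup Γ) → ℂ) l) fun l => (χ : T → ℂ) (inclusion hLT l),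
    comp_eq_sum_homMult (inclusion hLT) χ, classInner_sum_right]
  refine mul_eq_zero_of_right _ (Finset.sum_eq_zero fun ψ _ => ?_)
  rw [classInner_smul_right]
  by_cases hψ : rmult hLT χ ψ = 0
  · rw [show homMult (inclusion hLT) χ ψ = 0 from hψ]; simp
  · rw [hkey ψ hψ, mul_zero]

include hMT hTn hHT hinv in
/-- The number of characters over an invariant `ξ` is the number of good classes. -/
theorem card_over_eq (hgen : T ≤ M ⊔ H) {C : Subgroup Γ}
    (hC : ∀ z ∈ H, (z ∈ C ↔ z ∈ M)) :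
    Nat.card {χ : IrrCharacter T // rmult hMT χ ξ ≠ 0} =
      Nat.card (goodClasses C H (IsGood M H ξ)) := by
  classical
  letI := Fintype.ofFinite T
  let N := M.subgroupOf T
  haveI : N.Normal := normal_subgroupOf_of_le_normalizer hTn
  let π := QuotientGroup.mk' N
  have hπ : ∀ a b : T, π a = π b ↔ (a : Γ) * (b : Γ)⁻¹ ∈ M := fun a b => by
    rw [← mul_inv_eq_one, ← map_inv, ← map_mul]
    exact QuotientGroup.eq_one_iff _
  have hdec : ∀ u : T, ∃ h : T, (h : Γ) ∈ H ∧ π u = π h := fun u => by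
    obtain ⟨m, hm, h, hh, he⟩ := Coprime.exists_mul_of_mem_sup' (hHT.trans hTn) (g := (u : Γ))
      (by rw [sup_comm]; exact hgen u.2)
    refine ⟨⟨h, hHT hh⟩, hh, (hπ _ _).2 ?_⟩
    rw [he, mul_inv_cancel_right]
    exact hm
  have hconjC : ∀ a b x : T, (a : Γ) ∈ H → (b : Γ) ∈ H → (x : Γ) ∈ H →
      ((x : Γ) * a * (x : Γ)⁻¹ * (b : Γ)⁻¹ ∈ C ↔ π x * π a * (π x)⁻¹ = π b) := by
    intro a b x ha hb hx
    rw [hC _ (mul_mem (mul_mem (mul_mem hx ha) (inv_mem hx)) (inv_mem hb)), ← map_inv, ← map_mul,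
      ← map_mul]
    exact ((hπ (x * a * x⁻¹) b).trans (by simp)).symm
  have hmemcls : ∀ (a : T) (z : Γ), (a : Γ) ∈ H → (z ∈ cls C H a ↔
      ∃ hz : z ∈ H, IsConj (π a) (π ⟨z, hHT hz⟩)) := by
    intro a z ha
    constructor
    · rintro ⟨hz, x, hx, hxc⟩
      exact ⟨hz, isConj_iff.2 ⟨π ⟨x, hHT hx⟩, (hconjC a ⟨z, hHT hz⟩ ⟨x, hHT hx⟩ ha hz hx).1 hxc⟩⟩
    · rintro ⟨hz, hc⟩
      obtain ⟨q, hq⟩ := isConj_iff.1 hc
      obtain ⟨u, rfl⟩ := QuotientGroup.mk'_surjective N q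
      obtain ⟨h, hh, hu⟩ := hdec u
      change π u * π a * (π u)⁻¹ = _ at hq
      rw [hu] at hq
      exact ⟨hz, h, hh, (hconjC a ⟨z, hHT hz⟩ h ha hz hh).2 hq⟩
  have hclseq : ∀ a b : T, (a : Γ) ∈ H → (b : Γ) ∈ H → IsConj (π a) (π b) →
      cls C H a = cls C H b := fun a b ha hb hc => Set.ext fun z => by
    rw [hmemcls a z ha, hmemcls b z hb]
    exact ⟨fun ⟨hz, h⟩ => ⟨hz, hc.symm.trans h⟩, fun ⟨hz, h⟩ => ⟨hz, hc.trans h⟩⟩
  let Cl := goodClasses C H (IsGood M H ξ)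
  haveI : Finite Cl := Subtype.finite
  have hrep : ∀ c : Cl, ∃ y, y ∈ H ∧ IsGood M H ξ y ∧ c.1 = cls C H y := fun c => c.2
  choose y hyH hyG hyc using hrep
  choose η hηr hηf using hyG
  let e : Cl → T → ℂ := fun c => cosetFun M T (y c) (η c)
  let F : Cl → T → ℂ := fun c u => ∑ x : T, e c (x * u * x⁻¹)
  have hFc : ∀ c, IsClassFunction T (F c) := fun c u g => by
    refine Fintype.sum_equiv (Equiv.mulRight g) _ _ fun x => congrArg (e c) ?_
    simp [mul_assoc]
  have hsupp : ∀ (c : Cl) (u : T), F c u ≠ 0 → IsConj (π u) (π ⟨y c, hHT (hyH c)⟩) := by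
    intro c u hu
    obtain ⟨x, -, hx⟩ := Finset.exists_ne_zero_of_sum_ne_zero hu
    have h1 : ((x * u * x⁻¹ : T) : Γ) * (y c)⁻¹ ∈ M :=
      by_contra fun hc => hx (dif_neg hc)
    refine isConj_iff.2 ⟨π x, ?_⟩
    rw [← map_inv, ← map_mul, ← map_mul]
    exact (hπ (x * u * x⁻¹) ⟨y c, hHT (hyH c)⟩).2 h1
  let K : Cl → ℕ := fun c => (Finset.univ.filter fun x : T =>
    π x * π ⟨y c, hHT (hyH c)⟩ * (π x)⁻¹ = π ⟨y c, hHT (hyH c)⟩).card
  have hval : ∀ (c : Cl) (u : T) (hu : (u : Γ) * (y c)⁻¹ ∈ M), F c u =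
      (K c : ℂ) * (η c : (M ⊔ zpowers (y c) : Subgroup Γ) → ℂ) ⟨u, mem_coset_sup hu⟩ := by
    intro c u hu
    rw [← nsmul_eq_mul, ← Finset.sum_const, Finset.sum_filter]
    refine Finset.sum_congr rfl fun x _ => ?_
    have hiff : ((x * u * x⁻¹ : T) : Γ) * (y c)⁻¹ ∈ M ↔
        π x * π ⟨y c, hHT (hyH c)⟩ * (π x)⁻¹ = π ⟨y c, hHT (hyH c)⟩ := by
      rw [← (hπ (x * u * x⁻¹) ⟨y c, hHT (hyH c)⟩), map_mul, map_mul, map_inv,
        (hπ u ⟨y c, hHT (hyH c)⟩).2 hu]
    by_cases hx : ((x * u * x⁻¹ : T) : Γ) * (y c)⁻¹ ∈ M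
    · rw [show e c (x * u * x⁻¹) = _ from dif_pos hx, if_pos (hiff.1 hx)]
      obtain ⟨m, hm, h, hh, hxe⟩ := Coprime.exists_mul_of_mem_sup' (hHT.trans hTn)
        (g := (x : Γ)) (by rw [sup_comm]; exact hgen x.2)
      have hπx : π x = π ⟨h, hHT hh⟩ :=
        (hπ _ _).2 (by rw [hxe, mul_inv_cancel_right]; exact hm)
      have hcomm : h * y c * h⁻¹ * (y c)⁻¹ ∈ M := by
        have h1 := hiff.1 hx
        rw [hπx, ← map_inv, ← map_mul, ← map_mul, hπ] at h1
        exact h1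
      have hL : h ∈ normalizer ((M ⊔ zpowers (y c) : Subgroup Γ) : Set Γ) := by
        have hconj : ∀ g, g ∈ T → g * y c * g⁻¹ * (y c)⁻¹ ∈ M →
            (M ⊔ zpowers (y c)).map (MulAut.conj g).toMonoidHom ≤ M ⊔ zpowers (y c) := by
          intro g hg hgy
          rw [Subgroup.map_sup]
          refine sup_le ?_ ?_
          · rintro _ ⟨k, hk, rfl⟩
            exact mem_sup_left ((mem_normalizer_iff.1 (hTn hg) k).1 hk)
          · rw [MonoidHom.map_zpowers, zpowers_le]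
            exact mem_coset_sup hgy
        have hle := hconj h (hHT hh) hcomm
        refine mem_normalizer_iff.2 fun z => ⟨fun hz => hle ⟨z, hz, rfl⟩, fun hz => ?_⟩
        have heq : (M ⊔ zpowers (y c)).map (MulAut.conj h).toMonoidHom = M ⊔ zpowers (y c) :=
          Subgroup.eq_of_le_of_card_ge hle
            (le_of_eq (Subgroup.card_map_of_injective (MulAut.conj h).injective).symm)
        obtain ⟨w, hw, hwe⟩ := heq.ge hz
        change h * w * h⁻¹ = h * z * h⁻¹ at hwe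
        rwa [mul_left_cancel (mul_right_cancel hwe)] at hw
      exact fixBy_mul hL (fixBy_of_mem (mem_sup_left hm) (η c)) (hηf c h hh hcomm)
        ⟨u, mem_coset_sup hu⟩ _ (by simp [hxe])
    · rw [show e c (x * u * x⁻¹) = _ from dif_neg hx, if_neg (fun h => hx (hiff.2 h))]
  have hKpos : ∀ c, K c ≠ 0 := fun c => Finset.card_ne_zero.2 ⟨1, by simp⟩
  have hindF : LinearIndependent ℂ F := by
    rw [linearIndependent_iff']
    intro s a ha c hc
    have hL : M ⊔ zpowers (y c) ≤ normalizer (M : Set Γ) :=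
      sup_le le_normalizer ((zpowers_le.2 (hHT (hyH c))).trans hTn)
    obtain ⟨k, hk⟩ := exists_ne_zero_coset hL (hηr c) ⟨y c, mem_sup_right (mem_zpowers _)⟩
    let u : T := ⟨k * y c, mul_mem (hMT k.2) (hHT (hyH c))⟩
    have hu : (u : Γ) * (y c)⁻¹ ∈ M := by simp [u]
    have h1 := congrFun ha u
    rw [Finset.sum_apply, Finset.sum_eq_single c (fun d _ hd => ?_) (fun h => absurd hc h),
      Pi.smul_apply, smul_eq_mul, hval c u hu, Pi.zero_apply, mul_eq_zero] at h1
    · refine h1.resolve_right fun h2 => ?_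
      rcases mul_eq_zero.1 h2 with h3 | h3
      · exact hKpos c (Nat.cast_eq_zero.1 h3)
      · exact hk h3
    · rw [Pi.smul_apply, smul_eq_mul]
      refine mul_eq_zero_of_right _ (by_contra fun hne => hd (Subtype.ext ?_))
      have h2 := hsupp d u hne
      rw [(hπ u ⟨y c, hHT (hyH c)⟩).2 hu] at h2
      rw [hyc d, hyc c]
      exact (hclseq ⟨y c, hHT (hyH c)⟩ ⟨y d, hHT (hyH d)⟩ (hyH c) (hyH d) h2).symm
  have hindS : LinearIndependent ℂ
      (fun χ : {χ : IrrCharacter T // rmult hMT χ ξ ≠ 0} => (χ.1 : T → ℂ)) :=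
    irr_linearIndependent.comp Subtype.val Subtype.val_injective
  refine card_eq_of_mutual_span hindS hindF (fun χ => ?_) fun c => ?_
  · choose a ha using fun c : Cl => over_eq_mul hMT hTn hinv χ.2 (hHT (hyH c)) (hηr c)
    letI := Fintype.ofFinite Cl
    have heq : (χ.1 : T → ℂ) = ∑ c, (a c / K c) • F c := by
      funext u
      rw [Finset.sum_apply]
      obtain ⟨h, hh, hu⟩ := hdec u
      by_cases hg : ∃ c : Cl, IsConj (π u) (π ⟨y c, hHT (hyH c)⟩)
      · obtain ⟨c, hc⟩ := hg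
        rw [Finset.sum_eq_single c (fun d _ hd => ?_) (fun h => absurd (Finset.mem_univ c) h)]
        · obtain ⟨q, hq⟩ := isConj_iff.1 hc
          obtain ⟨x, rfl⟩ := QuotientGroup.mk'_surjective N q
          change π x * π u * (π x)⁻¹ = _ at hq
          rw [← map_inv, ← map_mul, ← map_mul] at hq
          have hu' := (hπ (x * u * x⁻¹) ⟨y c, hHT (hyH c)⟩).1 hq
          rw [Pi.smul_apply, smul_eq_mul, ← hFc c u x, ← irr_isClassFunction χ.1.2 u x,
            hval c _ hu', ha c _ hu', ← mul_assoc,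
            div_mul_cancel₀ _ (Nat.cast_ne_zero.2 (hKpos c))]
        · rw [Pi.smul_apply, smul_eq_mul]
          refine mul_eq_zero_of_right _ (by_contra fun hne => hd (Subtype.ext ?_))
          rw [hyc d, hyc c]
          exact (hclseq ⟨y c, hHT (hyH c)⟩ ⟨y d, hHT (hyH d)⟩ (hyH c) (hyH d)
            (hc.symm.trans (hsupp d u hne))).symm
      · rw [Finset.sum_eq_zero fun c _ => by
          rw [Pi.smul_apply, smul_eq_mul]
          exact mul_eq_zero_of_right _ (by_contra fun hne => hg ⟨c, hsupp c u hne⟩)]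
        -- `h` is bad
        have hbad : ¬ IsGood M H ξ h := fun hgood => by
          refine hg ⟨⟨cls C H h, h, hh, hgood, rfl⟩, ?_⟩
          have h2 := hyc ⟨cls C H h, h, hh, hgood, rfl⟩
          have h3 : (h : Γ) ∈ cls C H (h : Γ) := (hmemcls h h hh).2 ⟨hh, IsConj.refl _⟩
          change cls C H (h : Γ) = _ at h2
          rw [h2] at h3
          obtain ⟨_, h4⟩ := (hmemcls ⟨_, hHT (hyH _)⟩ (h : Γ) (hyH _)).1 h3
          rw [hu]
          exact h4.symm
        obtain ⟨η₀, hη₀⟩ := ext_cyclic (le_sup_left : M ≤ M ⊔ zpowers (h : Γ))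
          (sup_le le_normalizer ((zpowers_le.2 h.2).trans hTn)) (h : Γ)
          (mem_sup_right (mem_zpowers _)) le_rfl (hinv _ h.2)
        simp only [IsGood, not_exists, not_and, not_forall] at hbad
        obtain ⟨x, hx, hcomm, hnf⟩ := hbad η₀ hη₀
        have hLT : (M ⊔ zpowers (h : Γ) : Subgroup Γ) ≤ T := sup_le hMT (zpowers_le.2 h.2)
        have hab : AbMod M (M ⊔ zpowers (h : Γ) : Subgroup Γ) := abMod_sup ((zpowers_le.2 h.2).trans hTn) fun a ha b hb => by
          obtain ⟨i, rfl⟩ := mem_zpowers_iff.1 ha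
          obtain ⟨j, rfl⟩ := mem_zpowers_iff.1 hb
          rw [show (h : Γ) ^ i * (h : Γ) ^ j * ((h : Γ) ^ i)⁻¹ * ((h : Γ) ^ j)⁻¹ = 1 by group]
          exact one_mem _
        have hxL : ∀ l ∈ (M ⊔ zpowers (h : Γ) : Subgroup Γ), x * l * x⁻¹ ∈ (M ⊔ zpowers (h : Γ) : Subgroup Γ) := fun l hl => by
          have hle : (M ⊔ zpowers (h : Γ) : Subgroup Γ).map (MulAut.conj x).toMonoidHom ≤ (M ⊔ zpowers (h : Γ) : Subgroup Γ) := by
            rw [Subgroup.map_sup]
            refine sup_le ?_ ?_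
            · rintro _ ⟨k, hk, rfl⟩
              exact mem_sup_left ((mem_normalizer_iff.1 (hTn (hHT hx)) k).1 hk)
            · rw [MonoidHom.map_zpowers, zpowers_le]
              exact mem_coset_sup hcomm
          exact hle ⟨l, hl, rfl⟩
        have hxn : x ∈ normalizer ((M ⊔ zpowers (h : Γ) : Subgroup Γ) : Set Γ) := by
          refine mem_normalizer_iff.2 fun z => ⟨hxL z, fun hz => ?_⟩
          have heq : (M ⊔ zpowers (h : Γ) : Subgroup Γ).map (MulAut.conj x).toMonoidHom = (M ⊔ zpowers (h : Γ) : Subgroup Γ) :=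
            Subgroup.eq_of_le_of_card_ge (by rintro _ ⟨l, hl, rfl⟩; exact hxL l hl)
              (le_of_eq (Subgroup.card_map_of_injective (MulAut.conj x).injective).symm)
          obtain ⟨w, hw, hwe⟩ := heq.ge hz
          change x * w * x⁻¹ = x * z * x⁻¹ at hwe
          rwa [mul_left_cancel (mul_right_cancel hwe)] at hw
        obtain ⟨f, hf, hfe⟩ := exists_twist hab hη₀ (χ := cjI hxn η₀) (by
          have h5 : Restr (le_sup_left : M ≤ (M ⊔ zpowers (h : Γ) : Subgroup Γ)) (cjI hxn η₀) ξ := fun k => by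
            rw [cjI_coe, ← hinv x (hHT hx) k ⟨_, (mem_normalizer_iff.1 (hTn (hHT hx)) k).1 k.2⟩ rfl,
              ← hη₀]
            rfl
          rw [h5.rmult_one]; exact one_ne_zero)
        have hf1 : f ≠ 1 := fun hf1 => hnf ((fixBy_iff hxn η₀).2 (by
          rw [hfe, hf1]; exact Subtype.ext (funext fun l => by simp [twist_coe])))
        obtain ⟨b, hb⟩ := over_eq_mul hMT hTn hinv χ.2 h.2 hη₀
        have hu2 : (u : Γ) * (h : Γ)⁻¹ ∈ M := (hπ u h).1 hu
        have hu3 : ((⟨x, hHT hx⟩ * u * ⟨x, hHT hx⟩⁻¹ : T) : Γ) * (h : Γ)⁻¹ ∈ M := by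
          refine (hπ _ h).1 ?_
          rw [map_mul, map_mul, map_inv, hu, ← map_inv, ← map_mul, ← map_mul, hπ]
          exact hcomm
        have h6 := hb _ hu3
        rw [irr_isClassFunction χ.1.2, hb u hu2] at h6
        have h7 : (η₀ : (M ⊔ zpowers (h : Γ) : Subgroup Γ) → ℂ) ⟨(⟨x, hHT hx⟩ * u * ⟨x, hHT hx⟩⁻¹ : T), mem_coset_sup hu3⟩ =
            (f ⟨u, mem_coset_sup hu2⟩ : ℂ) * (η₀ : (M ⊔ zpowers (h : Γ) : Subgroup Γ) → ℂ) ⟨u, mem_coset_sup hu2⟩ := by
          rw [← twist_coe, ← hfe, cjI_coe]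
          exact irr_apply_congr η₀ rfl
        rw [h7] at h6
        have hfne : (f ⟨u, mem_coset_sup hu2⟩ : ℂ) ≠ 1 := fun h8 => hf1 (by
          have h8' : f ⟨u, mem_coset_sup hu2⟩ = 1 := Units.ext h8
          rw [show (⟨u, mem_coset_sup hu2⟩ : (M ⊔ zpowers (h : Γ) : Subgroup Γ)) = inclusion le_sup_left (⟨_, hu2⟩ : M) *
            ⟨h, mem_sup_right (mem_zpowers _)⟩ from Subtype.ext (by simp), map_mul, hf,
            one_mul] at h8'
          refine MonoidHom.ext fun l => ?_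
          have hker : (M ⊔ zpowers (h : Γ) : Subgroup Γ) ≤ f.ker.map (M ⊔ zpowers (h : Γ) : Subgroup Γ).subtype := sup_le
            (fun k hk => ⟨inclusion le_sup_left (⟨k, hk⟩ : M), hf _, rfl⟩)
            (zpowers_le.2 ⟨_, h8', rfl⟩)
          obtain ⟨l', hl', he⟩ := hker l.2
          rwa [show l' = l from Subtype.ext he] at hl')
        rw [hb u hu2]
        have h9 : (b * (η₀ : (M ⊔ zpowers (h : Γ) : Subgroup Γ) → ℂ) ⟨u, mem_coset_sup hu2⟩) *
            ((f ⟨u, mem_coset_sup hu2⟩ : ℂ) - 1) = 0 := by linear_combination -h6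
        exact (mul_eq_zero.1 h9).resolve_right (sub_ne_zero.2 hfne)
    rw [heq]
    exact Submodule.sum_mem _ fun c _ => Submodule.smul_mem _ _ (Submodule.subset_span ⟨c, rfl⟩)
  · rw [eq_sum_classInner_smul (hFc c)]
    refine Submodule.sum_mem _ fun χ _ => ?_
    by_cases hχ : rmult hMT χ ξ = 0
    · have hz : classInner (F c) (χ : T → ℂ) = 0 := by
        refine mul_eq_zero_of_right _ ?_
        simp only [F, Finset.sum_mul]
        rw [Finset.sum_comm]
        refine Finset.sum_eq_zero fun x _ => ?_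
        rw [← classInner_cosetFun hMT hTn hinv (hHT (hyH c)) (hηr c) hχ]
        refine Fintype.sum_equiv (MulAut.conj x).toEquiv _ _ fun u => ?_
        show _ = _ * conj ((χ : T → ℂ) (x * u * x⁻¹))
        rw [irr_isClassFunction χ.2]
        rfl
      rw [hz, zero_smul]
      exact Submodule.zero_mem _
    · exact Submodule.smul_mem _ _ (Submodule.subset_span ⟨⟨χ, hχ⟩, rfl⟩)

end Setting

end Cfsg.Agent.RelMcKay
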