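import Cfsg.Agent.RelMcKay.Basic
import Cfsg.Agent.Coprime.Action

/-!
# Extendibility is preserved by the Glauberman correspondence

`θ` extends to `K H` exactly when its correspondent extends to `H`, for a `p'`-group `H` normalising
the `p`-group `S`, abelian modulo the fixed points of `S` on the `p'`-group `K`.
-/

set_option autoImplicit false
set_option linter.style.haveILetI false
set_option linter.unusedSectionVars false

open scoped ComplexConjugate
open Cfsg.Agent.Char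

namespace Cfsg.Agent.RelMcKay

open Subgroup
open Cfsg.Agent.GlauberCorr

universe u v

/-- An abelian group of automorphisms acting irreducibly on an abelian group is cyclic. -/
theorem exists_gen_of_irreducible {A : Type u} [Group A] {G : Type v} [CommGroup G] [Finite G]
    [Nontrivial G] (φ : A →* MulAut G) (hab : ∀ a b, φ a * φ b = φ b * φ a)
    (hirr : ∀ V : Subgroup G, (∀ a, ∀ v ∈ V, φ a v ∈ V) → V = ⊥ ∨ V = ⊤) :
    ∃ a₀, ∀ a, ∃ i : ℤ, φ a = φ a₀ ^ i := by
  classical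
  let e : MulAut G →* AddMonoid.End (Additive G) :=
    { toFun := fun u => MonoidHom.toAdditive u.toMonoidHom
      map_one' := rfl
      map_mul' := fun _ _ => rfl }
  let S : Set (AddMonoid.End (Additive G)) := Set.range fun a => e (φ a)
  have hS : ∀ x ∈ S, ∀ y ∈ S, x * y = y * x := by
    rintro _ ⟨a, rfl⟩ _ ⟨b, rfl⟩
    simp only [← map_mul, hab a b]
  haveI hcm := Subring.isMulCommutative_closure (s := S) hS
  letI : CommRing (Subring.closure S) :=
    { (inferInstance : Ring (Subring.closure S)) with mul_comm := fun a b => hcm.is_comm.comm a b }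
  haveI : Nontrivial (Subring.closure S) := ⟨⟨1, 0, fun h => by
    obtain ⟨g, hg⟩ := exists_ne (1 : G)
    exact hg (congrArg (fun f : Subring.closure S =>
      Additive.toMul ((f : AddMonoid.End (Additive G)) (Additive.ofMul g))) h)⟩⟩
  haveI : NoZeroDivisors (Subring.closure S) := ⟨fun {f g} hfg => by
    by_contra hne
    simp only [not_or] at hne
    obtain ⟨hf, hg⟩ := hne
    let V : Subgroup G := (MonoidHom.toAdditive.symm (f : AddMonoid.End (Additive G))).ker
    have hmemV : ∀ v, v ∈ V ↔ (f : AddMonoid.End (Additive G)) (Additive.ofMul v) = 0 :=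
      fun v => Iff.rfl
    have hVinv : ∀ a, ∀ v ∈ V, φ a v ∈ V := by
      intro a v hv
      rw [hmemV] at hv ⊢
      have hc := congrArg Subtype.val (mul_comm f (⟨e (φ a), Subring.subset_closure ⟨a, rfl⟩⟩ :
        Subring.closure S))
      exact (DFunLike.congr_fun hc (Additive.ofMul v)).trans
        ((congrArg (e (φ a)) hv).trans (map_zero _))
    rcases hirr V hVinv with hV | hV
    · refine hg (Subtype.ext (AddMonoidHom.ext fun x => ?_))
      have h1 : Additive.toMul ((g : AddMonoid.End (Additive G)) x) ∈ V := by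
        rw [hmemV]
        exact DFunLike.congr_fun (congrArg Subtype.val hfg) x
      rw [hV, mem_bot] at h1
      exact h1
    · refine hf (Subtype.ext (AddMonoidHom.ext fun x => ?_))
      exact (hmemV (Additive.toMul x)).1 (hV ▸ Subgroup.mem_top _)⟩
  haveI : IsDomain (Subring.closure S) := NoZeroDivisors.to_isDomain _
  let ι : φ.range →* Subring.closure S :=
    { toFun := fun u => ⟨e u.1, by
        obtain ⟨a, ha⟩ := u.2
        exact Subring.subset_closure ⟨a, by rw [← ha]⟩⟩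
      map_one' := rfl
      map_mul' := fun _ _ => rfl }
  haveI : Finite (MulAut G) := Finite.of_injective (fun u : MulAut G => (u : G → G))
    DFunLike.coe_injective
  have hcyc : IsCyclic φ.range := isCyclic_of_subgroup_isDomain ι fun u v h => Subtype.ext
    (MulEquiv.ext fun x => congrArg Additive.toMul
      (DFunLike.congr_fun (congrArg Subtype.val h) (Additive.ofMul x)))
  obtain ⟨⟨_, a₀, rfl⟩, hgen⟩ := hcyc.exists_generator
  refine ⟨a₀, fun a => ?_⟩
  obtain ⟨i, hi⟩ := mem_zpowers_iff.1 (hgen ⟨φ a, a, rfl⟩)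
  exact ⟨i, (congrArg Subtype.val hi).symm⟩

variable {Γ : Type u} [Group Γ] [Finite Γ] {p : ℕ} [hp : Fact p.Prime]

/-- The correspondence for a `p`-subgroup `W` normalising the `p'`-subgroup `A`. -/
theorem glau_matching {W A B : Subgroup Γ} (hW : IsPGroup p W)
    (hWA : W ≤ normalizer (A : Set Γ)) (hA : ¬ p ∣ Nat.card A) (hBA : B ≤ A)
    (hB : ∀ a, a ∈ B ↔ a ∈ A ∧ ∀ w ∈ W, w * a * w⁻¹ = a) :
    Matching p (fun χ : IrrCharacter A => ∀ w ∈ W, FixBy w χ) (fun _ : IrrCharacter B => True)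
      (rmult hBA) := by
  classical
  set φ := conjAct W A hWA with hφ
  have hC : ∀ k : A, k ∈ B.subgroupOf A ↔ ∀ a, φ a k = k := by
    intro k
    rw [mem_subgroupOf, hB]
    exact ⟨fun h a => Subtype.ext (h.2 a a.2),
      fun h => ⟨k.2, fun w hw => congrArg Subtype.val (h ⟨w, hw⟩)⟩⟩
  have M := matching_fixed φ hW hA (B.subgroupOf A) hC
  let e : B.subgroupOf A ≃* B := subgroupOfEquivOfLe hBA
  have hinv : ∀ χ : IrrCharacter A, (∀ w ∈ W, FixBy w χ) →
      ∀ a k, (χ : A → ℂ) (φ a k) = (χ : A → ℂ) k := fun χ h a k => h a a.2 k _ rfl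
  have hinv' : ∀ χ : IrrCharacter A, (∀ a k, (χ : A → ℂ) (φ a k) = (χ : A → ℂ) k) →
      ∀ w ∈ W, FixBy w χ := fun χ h w hw k k' he => by
    rw [← h ⟨w, hw⟩ k]
    exact irr_apply_congr χ he
  have hm : ∀ (χ : IrrCharacter A) (ξ : IrrCharacter B),
      rmult hBA χ ξ = resMult (B.subgroupOf A) χ (irrComap e ξ) := fun χ ξ => by
    rw [resMult_eq_homMult, show rmult hBA χ ξ = homMult (inclusion hBA) χ ξ from rfl,
      ← homMult_comp_equiv (inclusion hBA) e χ ξ]
    rfl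
  have hinj : Function.Injective (irrComap e : IrrCharacter B → IrrCharacter (B.subgroupOf A)) :=
    fun ξ ξ' h => Subtype.ext (funext fun b => by
      have h1 := congrFun (congrArg Subtype.val h) (e.symm b)
      rwa [irrComap_coe, irrComap_coe, e.apply_symm_apply] at h1)
  constructor
  · intro χ hχ
    obtain ⟨ξ, -, hξ⟩ := M.exists_left χ (hinv χ hχ)
    exact ⟨irrComap e.symm ξ, trivial, by rwa [hm, irrComap_symm_irrComap]⟩
  · intro ξ _
    obtain ⟨χ, hχ, hχm⟩ := M.exists_right (irrComap e ξ) trivial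
    exact ⟨χ, hinv' χ hχ, by rwa [hm]⟩
  · intro χ ξ ξ' hχ _ _ h h'
    rw [hm] at h h'
    exact hinj (M.unique_right χ _ _ (hinv χ hχ) trivial trivial h h')
  · intro χ χ' ξ hχ hχ' _ h h'
    rw [hm] at h h'
    exact M.unique_left χ χ' _ (hinv χ hχ) (hinv χ' hχ') trivial h h'
  · intro χ ξ hχ _ h
    rw [hm] at h ⊢
    exact M.sign χ _ (hinv χ hχ) trivial h

/-- Two ways through a commutative square of restrictions agree modulo `p`. -/
theorem square_congr {W K A D B : Subgroup Γ} (hW : IsPGroup p W) (hDK : D ≤ K) (hKA : K ≤ A)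
    (hDB : D ≤ B) (hBA : B ≤ A) (hWK : W ≤ normalizer (K : Set Γ))
    (hWA : W ≤ normalizer (A : Set Γ)) (hWD : ∀ w ∈ W, ∀ d ∈ D, w * d * w⁻¹ = d)
    {η : IrrCharacter A} (hη : ∀ w ∈ W, FixBy w η) {θ : IrrCharacter K}
    (hθ : ∀ w ∈ W, FixBy w θ) {η' : IrrCharacter B} (θ' : IrrCharacter D)
    (hB : ∀ ψ, ψ ≠ η' → p ∣ rmult hBA η ψ)
    (hK : ∀ φ : IrrCharacter K, (∀ w ∈ W, FixBy w φ) → φ ≠ θ → p ∣ rmult hDK φ θ') :
    (rmult hKA η θ * rmult hDK θ θ' : ZMod p) = rmult hBA η η' * rmult hDB η' θ' := by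
  classical
  haveI : NeZero p := ⟨hp.out.ne_zero⟩
  letI := Fintype.ofFinite (IrrCharacter K)
  have h1 := rmult_mod_eq (p := p) hDB hBA η θ' η' (fun ψ hψ => dvd_mul_of_dvd_left (hB ψ hψ) _)
  push_cast at h1
  rw [← h1]
  set φ := conjAct W K hWK
  let f : IrrCharacter K → ℂ := fun ζ => ((rmult hKA η ζ * rmult hDK ζ θ' : ℕ) : ℂ)
  have hf : ∀ a ζ, f (irrPerm φ a ζ) = f ζ := by
    intro a ζ
    have hgK := hWK (inv_mem a.2)
    have hgA := hWA (inv_mem a.2)
    have hgD : (a : Γ)⁻¹ ∈ normalizer (D : Set Γ) := by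
      refine mem_normalizer_iff.2 fun d => ⟨fun hd => ?_, fun hd => ?_⟩
      · rw [hWD _ (inv_mem a.2) d hd]; exact hd
      · have h2 := hWD _ a.2 _ hd
        rw [show (a : Γ) * ((a : Γ)⁻¹ * d * (a : Γ)⁻¹⁻¹) * (a : Γ)⁻¹ = d by group] at h2
        rw [h2]; exact hd
    have e1 : irrPerm φ a ζ = cjI hgK ζ := Subtype.ext (funext fun k => rfl)
    have e2 : cjI hgA η = η := (fixBy_iff _ _).1 (hη _ (inv_mem a.2))
    have e3 : cjI hgD θ' = θ' := Subtype.ext (funext fun d => irr_apply_congr θ'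
      (hWD _ (inv_mem a.2) d d.2))
    simp only [f, e1]
    conv_lhs => rw [← e2, ← e3, rmult_cjI hKA hgK hgA, rmult_cjI hDK hgD hgK]
  have hsum := sum_congr_fixed hW (irrPerm φ) f (fun ζ => isIntegral_of_nat _) hf
  have hfix : Congr p (∑ ζ with (∀ a, irrPerm φ a ζ = ζ), f ζ) (f θ) := by
    have hθm : θ ∈ Finset.univ.filter fun ζ => ∀ a, irrPerm φ a ζ = ζ :=
      Finset.mem_filter.2 ⟨Finset.mem_univ θ, (irrPerm_fixed_iff φ θ).2
        fun a k => hθ a a.2 k _ rfl⟩
    rw [← Finset.add_sum_erase _ _ hθm]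
    refine ((Congr.refl _).add ((Congr.sum _ fun ζ hζ => ?_).trans
      (Congr.of_eq Finset.sum_const_zero))).trans (Congr.of_eq (add_zero _))
    obtain ⟨hne, hm⟩ := Finset.mem_erase.1 hζ
    have hd := hK ζ (fun w hw k k' he => by
      rw [← (irrPerm_fixed_iff φ ζ).1 (Finset.mem_filter.1 hm).2 ⟨w, hw⟩ k]
      exact irr_apply_congr ζ he) hne
    simp only [f]
    rw [← mul_one ((rmult hKA η ζ * rmult hDK ζ θ' : ℕ) : ℂ)]
    exact Congr.natMul_zero isIntegral_one (dvd_mul_of_dvd_right hd _)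
  have htot : (∑ ζ, f ζ) = (rmult (hDK.trans hKA) η θ' : ℂ) := by
    rw [rmult_trans hDK hKA η θ', Nat.cast_sum]
  rw [htot] at hsum
  have h2 := (ZMod.intCast_eq_intCast_iff _ _ p).2 (Congr.int_modEq (p := p)
    (m := ((rmult (hDK.trans hKA) η θ' : ℕ) : ℤ))
    (n := ((rmult hKA η θ * rmult hDK θ θ' : ℕ) : ℤ)) (by
      rw [Int.cast_natCast, Int.cast_natCast]; exact hsum.trans hfix))
  push_cast at h2
  rw [← h2]

theorem abMod_sup {K L : Subgroup Γ} (hn : L ≤ normalizer (K : Set Γ))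
    (h : ∀ a ∈ L, ∀ b ∈ L, a * b * a⁻¹ * b⁻¹ ∈ K) : AbMod K (K ⊔ L) := by
  intro a ha b hb
  obtain ⟨k, hk, x, hx, rfl⟩ := Coprime.exists_mul_of_mem_sup' hn (by rwa [sup_comm] at ha)
  obtain ⟨l, hl, y, hy, rfl⟩ := Coprime.exists_mul_of_mem_sup' hn (by rwa [sup_comm] at hb)
  have h1 := mul_mem (mul_mem (mul_mem hk ((mem_normalizer_iff.1 (hn hx) l).1 hl)) (h x hx y hy))
    (mul_mem ((mem_normalizer_iff.1 (hn hy) _).1 (inv_mem hk)) (inv_mem hl))
  convert h1 using 1
  group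

theorem normalizer_le_sup (K L : Subgroup Γ) (g : Γ) (hK : g ∈ normalizer (K : Set Γ))
    (hL : g ∈ normalizer (L : Set Γ)) : g ∈ normalizer ((K ⊔ L : Subgroup Γ) : Set Γ) := by
  rw [← zpowers_le] at hK hL ⊢
  intro x hx
  have hmap : ∀ (J : Subgroup Γ), x ∈ normalizer (J : Set Γ) →
      J.map (MulAut.conj x).toMonoidHom = J := fun J h => by
    ext z
    constructor
    · rintro ⟨w, hw, rfl⟩
      exact (mem_normalizer_iff.1 h w).1 hw
    · intro hz
      refine ⟨x⁻¹ * z * x, (mem_normalizer_iff.1 h _).2 ?_, ?_⟩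
      · rwa [show x * (x⁻¹ * z * x) * x⁻¹ = z by group]
      · show x * (x⁻¹ * z * x) * x⁻¹ = z
        group
  have h1 : (K ⊔ L).map (MulAut.conj x).toMonoidHom = K ⊔ L := by
    rw [Subgroup.map_sup, hmap K (hK hx), hmap L (hL hx)]
  refine mem_normalizer_iff.2 fun z => ⟨fun hz => h1.le ⟨z, hz, rfl⟩, fun hz => ?_⟩
  obtain ⟨w, hw, he⟩ := h1.ge hz
  change x * w * x⁻¹ = x * z * x⁻¹ at he
  rwa [mul_left_cancel (mul_right_cancel he)] at hw

/-- The data of the Key Lemma. -/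
structure KData (p : ℕ) (S H K C : Subgroup Γ) : Prop where
  hS : IsPGroup p S
  hK : ¬ p ∣ Nat.card K
  hH : ¬ p ∣ Nat.card H
  normS : H ≤ normalizer (S : Set Γ)
  SnormK : S ≤ normalizer (K : Set Γ)
  HnormK : H ≤ normalizer (K : Set Γ)
  ab : AbMod C H
  CH : C ≤ H
  fix : ∀ k, k ∈ C ↔ k ∈ K ∧ ∀ s ∈ S, s * k * s⁻¹ = k
  inter : H ⊓ K ≤ C

theorem KData.CK {S H K C : Subgroup Γ} (d : KData p S H K C) : C ≤ K := fun _ hk =>
  ((d.fix _).1 hk).1

theorem relIndex_sup_eq {K L : Subgroup Γ} (hn : L ≤ normalizer (K : Set Γ)) :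
    K.relIndex (K ⊔ L) = K.relIndex L := by
  haveI : (K.subgroupOf (normalizer (K : Set Γ))).Normal := normal_in_normalizer
  have hK : K ≤ normalizer (K : Set Γ) := le_normalizer
  have h := Subgroup.relIndex_sup_right (L.subgroupOf (normalizer (K : Set Γ)))
    (K.subgroupOf (normalizer (K : Set Γ)))
  rwa [← subgroupOf_sup hn hK, relIndex_subgroupOf (sup_le hn hK), relIndex_subgroupOf hn,
    sup_comm] at h

theorem not_dvd_card_sup {K L : Subgroup Γ} (hn : L ≤ normalizer (K : Set Γ))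
    (hK : ¬ p ∣ Nat.card K) (hL : ¬ p ∣ Nat.card L) : ¬ p ∣ Nat.card (K ⊔ L : Subgroup Γ) := by
  rw [← relIndex_bot_left, ← relIndex_mul_relIndex ⊥ K (K ⊔ L) bot_le le_sup_left,
    relIndex_bot_left, relIndex_sup_eq hn]
  intro h
  rcases hp.out.dvd_mul.1 h with h | h
  · exact hK h
  · exact hL (h.trans (Subgroup.relIndex_dvd_card K L))

/-- **Key Lemma**: extendibility goes through the Glauberman correspondence. -/
theorem key (n : ℕ) : ∀ {S H K C : Subgroup Γ} (d : KData p S H K C) (S₀ : Subgroup Γ),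
    S₀ ≤ S → S ≤ normalizer (S₀ : Set Γ) → H ≤ normalizer (S₀ : Set Γ) →
    (∀ s ∈ S₀, ∀ k ∈ K, s * k * s⁻¹ = k) → S₀.relIndex S = n →
    ∀ θ : IrrCharacter K, (∀ s ∈ S, FixBy s θ) → (∀ h ∈ H, FixBy h θ) →
    ∀ θs : IrrCharacter C, ¬ p ∣ rmult d.CK θ θs →
      (Ext (le_sup_left : K ≤ K ⊔ H) θ ↔ Ext d.CH θs) := by
  induction n using Nat.strong_induction_on with
  | _ n ih =>
  classical
  intro S H K C d S₀ hS₀ hSN₀ hHN₀ htriv hn θ hθS hθH θs hθs
  by_cases hSle : S ≤ S₀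
  · have hKC : K = C := le_antisymm (fun k hk => (d.fix k).2
      ⟨hk, fun s hs => htriv s (hSle hs) k hk⟩) d.CK
    subst hKC
    have he : θ = θs := by
      by_contra hne
      apply hθs
      rw [show rmult d.CK θ θs = rmult (le_refl K) θ θs from rfl, rmult_self, if_neg hne]
      exact dvd_zero p
    subst he
    exact ⟨fun h => h.congr rfl (sup_eq_right.2 d.CH) θ fun a a' ha => irr_apply_congr θ ha,
      fun h => h.congr rfl (sup_eq_right.2 d.CH).symm θ fun a a' ha => irr_apply_congr θ ha⟩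
  -- the minimal `W`
  haveI : (S₀.subgroupOf S).Normal := normal_subgroupOf_of_le_normalizer hSN₀
  let P : Subgroup Γ → Prop := fun W => S₀ < W ∧ W ≤ S ∧ H ≤ normalizer (W : Set Γ) ∧
    ∀ w ∈ W, ∀ s ∈ S, w * s * w⁻¹ * s⁻¹ ∈ S₀
  have hPne : ∃ W, P W := by
    let mk := QuotientGroup.mk' (S₀.subgroupOf S)
    let Z : Subgroup Γ := ((center (S ⧸ S₀.subgroupOf S)).comap mk).map S.subtype
    haveI : Nontrivial (S ⧸ S₀.subgroupOf S) :=
      QuotientGroup.nontrivial_iff.2 (fun h => hSle (subgroupOf_eq_top.1 h))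
    haveI := (d.hS.to_quotient (S₀.subgroupOf S)).center_nontrivial
    have hmemZ : ∀ z, z ∈ Z ↔ z ∈ S ∧ ∀ s ∈ S, z * s * z⁻¹ * s⁻¹ ∈ S₀ := by
      intro z
      constructor
      · rintro ⟨z, hz, rfl⟩
        refine ⟨z.2, fun s hs => ?_⟩
        have h1 := mem_center_iff.1 hz (mk ⟨s, hs⟩)
        rw [← map_mul, ← map_mul] at h1
        have h2 : mk (z * ⟨s, hs⟩ * z⁻¹ * (⟨s, hs⟩ : S)⁻¹) = 1 := by
          rw [map_mul, map_mul, map_mul, ← map_mul, ← h1, map_mul, map_inv, map_inv]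
          group
        exact (QuotientGroup.eq_one_iff (N := S₀.subgroupOf S) _).1 h2
      · rintro ⟨hz, h⟩
        refine ⟨⟨z, hz⟩, mem_center_iff.2 fun q => ?_, rfl⟩
        obtain ⟨s, rfl⟩ := QuotientGroup.mk'_surjective _ q
        have h2 : mk (⟨z, hz⟩ * s * (⟨z, hz⟩ : S)⁻¹ * s⁻¹) = 1 :=
          (QuotientGroup.eq_one_iff _).2 (h s s.2)
        rw [map_mul, map_mul, map_mul, map_inv, map_inv, mul_inv_eq_one, mul_inv_eq_iff_eq_mul] at h2
        exact h2.symm
    have hS₀Z : S₀ ≤ Z := fun z hz => (hmemZ z).2 ⟨hS₀ hz, fun s hs => by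
      rw [show z * s * z⁻¹ * s⁻¹ = z * (s * z⁻¹ * s⁻¹) by group]
      exact mul_mem hz ((mem_normalizer_iff.1 (hSN₀ hs) _).1 (inv_mem hz))⟩
    refine ⟨Z, lt_of_le_of_ne hS₀Z fun e => ?_, fun z hz => ((hmemZ z).1 hz).1, fun h hh => ?_,
      fun w hw => ((hmemZ w).1 hw).2⟩
    · obtain ⟨c, hc⟩ := exists_ne (1 : center (S ⧸ S₀.subgroupOf S))
      obtain ⟨z, hz⟩ := QuotientGroup.mk'_surjective _ (c : S ⧸ S₀.subgroupOf S)
      have hzS : (z : Γ) ∈ S₀ := by
        rw [e]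
        exact ⟨z, by show mk z ∈ center _; rw [show mk z = _ from hz]; exact c.2, rfl⟩
      refine hc (Subtype.ext ?_)
      rw [← hz, OneMemClass.coe_one, QuotientGroup.mk'_apply, QuotientGroup.eq_one_iff]
      exact hzS
    · have hconj : ∀ g ∈ H, ∀ z ∈ Z, g * z * g⁻¹ ∈ Z := fun g hg z hz => by
        obtain ⟨hzS, hz2⟩ := (hmemZ z).1 hz
        refine (hmemZ _).2 ⟨(mem_normalizer_iff.1 (d.normS hg) z).1 hzS, fun s hs => ?_⟩
        have hs' := (mem_normalizer_iff.1 (d.normS (inv_mem hg)) s).1 hs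
        have := (mem_normalizer_iff.1 (hHN₀ hg) _).1 (hz2 _ hs')
        convert this using 1
        group
      refine mem_normalizer_iff.2 fun z => ⟨hconj h hh z, fun hz => ?_⟩
      have := hconj h⁻¹ (inv_mem hh) _ hz
      simpa [mul_assoc] using this
  obtain ⟨W, hW, hWmin⟩ := exists_minimal_of_wellFoundedLT P hPne
  obtain ⟨hS₀W, hWS, hHW, hWc⟩ := hW
  have hSW : S ≤ normalizer (W : Set Γ) := by
    have hconj : ∀ s ∈ S, ∀ w ∈ W, s * w * s⁻¹ ∈ W := fun s hs w hw => by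
      have h1 := inv_mem (hS₀W.le (hWc w hw s hs))
      have h2 := mul_mem h1 hw
      convert h2 using 1
      group
    intro s hs
    refine mem_normalizer_iff.2 fun w => ⟨hconj s hs w, fun hw => ?_⟩
    have := hconj s⁻¹ (inv_mem hs) _ hw
    simpa [mul_assoc] using this
  have hS₀conj : ∀ g ∈ H, ∀ x ∈ S₀, g * x * g⁻¹ ∈ S₀ := fun g hg x hx =>
    (mem_normalizer_iff.1 (hHN₀ hg) x).1 hx
  -- the kernel of the action
  let H₁ : Subgroup Γ :=
    { carrier := {h | h ∈ H ∧ ∀ w ∈ W, h * w * h⁻¹ * w⁻¹ ∈ S₀}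
      one_mem' := ⟨one_mem _, fun w _ => by simp⟩
      mul_mem' := fun {a b} ha hb => ⟨mul_mem ha.1 hb.1, fun w hw => by
        have h1 := mul_mem (hS₀conj a ha.1 _ (hb.2 w hw)) (ha.2 w hw)
        convert h1 using 1
        group⟩
      inv_mem' := fun {a} ha => ⟨inv_mem ha.1, fun w hw => by
        have h1 := hS₀conj a⁻¹ (inv_mem ha.1) _ (inv_mem (ha.2 w hw))
        convert h1 using 1
        group⟩ }
  have hH₁H : H₁ ≤ H := fun _ h => h.1
  have hCW : ∀ c ∈ C, ∀ s ∈ S, c * s * c⁻¹ * s⁻¹ = 1 := fun c hc s hs => by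
    have h1 := ((d.fix c).1 hc).2 s hs
    rw [show c * s * c⁻¹ * s⁻¹ = c * (s * c * s⁻¹)⁻¹ by group, h1, mul_inv_cancel]
  have hCH₁ : C ≤ H₁ := fun c hc => ⟨d.CH hc, fun w hw => by
    rw [hCW c hc w (hWS hw)]; exact one_mem _⟩
  have hH₁n : H ≤ normalizer (H₁ : Set Γ) := by
    have hconj : ∀ g ∈ H, ∀ x ∈ H₁, g * x * g⁻¹ ∈ H₁ := fun g hg x hx => by
      have h1 := mul_mem (hCH₁ (d.ab g hg x (hH₁H hx))) hx
      rwa [inv_mul_cancel_right] at h1
    intro g hg
    refine mem_normalizer_iff.2 fun x => ⟨hconj g hg x, fun hx => ?_⟩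
    have := hconj g⁻¹ (inv_mem hg) _ hx
    simpa [mul_assoc] using this
  obtain ⟨h₀, hh₀, hgen⟩ : ∃ h₀ ∈ H, H ≤ H₁ ⊔ zpowers h₀ := by
    haveI : (S₀.subgroupOf W).Normal := normal_subgroupOf_of_le_normalizer (hWS.trans hSN₀)
    let mk := QuotientGroup.mk' (S₀.subgroupOf W)
    letI : CommGroup (W ⧸ S₀.subgroupOf W) :=
      { (inferInstance : Group (W ⧸ S₀.subgroupOf W)) with
        mul_comm := fun a b => by
          obtain ⟨a, rfl⟩ := QuotientGroup.mk'_surjective _ a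
          obtain ⟨b, rfl⟩ := QuotientGroup.mk'_surjective _ b
          have h2 : mk (a * b * a⁻¹ * b⁻¹) = 1 :=
            (QuotientGroup.eq_one_iff _).2 (hWc a a.2 b (hWS b.2))
          rw [map_mul, map_mul, map_mul, map_inv, map_inv, mul_inv_eq_one,
            mul_inv_eq_iff_eq_mul] at h2
          exact h2 }
    haveI : Nontrivial (W ⧸ S₀.subgroupOf W) :=
      QuotientGroup.nontrivial_iff.2 (fun h => hS₀W.not_ge (subgroupOf_eq_top.1 h))
    have hmap : ∀ h : H, (S₀.subgroupOf W).map (cjE W (hHW h.2)).toMonoidHom =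
        S₀.subgroupOf W := by
      intro h
      ext x
      constructor
      · rintro ⟨y, hy, rfl⟩
        exact hS₀conj h h.2 _ hy
      · intro hx
        refine ⟨(cjE W (hHW h.2)).symm x, ?_, (cjE W (hHW h.2)).apply_symm_apply x⟩
        show (h : Γ)⁻¹ * (x : Γ) * (h : Γ) ∈ S₀
        have := hS₀conj (h : Γ)⁻¹ (inv_mem h.2) _ hx
        simpa using this
    let act : H → MulAut (W ⧸ S₀.subgroupOf W) := fun h =>
      QuotientGroup.congr _ _ (cjE W (hHW h.2)) (hmap h)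
    have hact : ∀ h w, act h (mk w) = mk (cjE W (hHW h.2) w) := fun h w => rfl
    let φ : H →* MulAut (W ⧸ S₀.subgroupOf W) :=
      MonoidHom.mk' act fun a b => MulEquiv.ext fun q => by
        obtain ⟨w, rfl⟩ := QuotientGroup.mk'_surjective _ q
        show act (a * b) (mk w) = act a (act b (mk w))
        rw [hact, hact, hact]
        exact congrArg mk (Subtype.ext (by simp [cjE_coe, mul_assoc]))
    have hker : ∀ h : H, φ h = 1 → (h : Γ) ∈ H₁ := fun h hh => ⟨h.2, fun w hw => by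
      have h1 := DFunLike.congr_fun hh (mk ⟨w, hw⟩)
      change act h (mk ⟨w, hw⟩) = mk ⟨w, hw⟩ at h1
      rw [hact] at h1
      have h2 : mk (cjE W (hHW h.2) ⟨w, hw⟩ * (⟨w, hw⟩ : W)⁻¹) = 1 := by
        rw [map_mul, h1, map_inv, mul_inv_cancel]
      exact (QuotientGroup.eq_one_iff (N := S₀.subgroupOf W) _).1 h2⟩
    have hker' : ∀ c : H, (c : Γ) ∈ H₁ → φ c = 1 := fun c hc => MulEquiv.ext fun q => by
      obtain ⟨w, rfl⟩ := QuotientGroup.mk'_surjective _ q
      show act c (mk w) = mk w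
      rw [hact, ← mul_inv_eq_one, ← map_inv, ← map_mul]
      exact (QuotientGroup.eq_one_iff _).2 (hc.2 w w.2)
    obtain ⟨a₀, ha₀⟩ := exists_gen_of_irreducible φ (fun a b => by
        have h1 := hker' (a * b * a⁻¹ * b⁻¹) (hCH₁ (d.ab a a.2 b b.2))
        rwa [map_mul, map_mul, map_mul, map_inv, map_inv, mul_inv_eq_one,
          mul_inv_eq_iff_eq_mul] at h1) fun V hV => by
      let V' : Subgroup Γ := (V.comap mk).map W.subtype
      have hV'W : V' ≤ W := map_subtype_le _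
      have hle : S₀ ≤ V' := fun x hx =>
        ⟨⟨x, hS₀W.le hx⟩, by
          show mk ⟨x, hS₀W.le hx⟩ ∈ V
          rw [show mk ⟨x, hS₀W.le hx⟩ = 1 from (QuotientGroup.eq_one_iff _).2 hx]
          exact one_mem _, rfl⟩
      rcases eq_or_lt_of_le hle with heq | hlt
      · left
        rw [eq_bot_iff]
        intro q hq
        obtain ⟨w, rfl⟩ := QuotientGroup.mk'_surjective _ q
        have : (w : Γ) ∈ S₀ := heq ▸ ⟨w, hq, rfl⟩
        exact (QuotientGroup.eq_one_iff _).2 this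
      · right
        have hconj : ∀ g ∈ H, ∀ x ∈ V', g * x * g⁻¹ ∈ V' := by
          rintro g hg _ ⟨w, hw, rfl⟩
          exact ⟨cjE W (hHW hg) w, hV ⟨g, hg⟩ _ hw, rfl⟩
        have hPV : P V' := ⟨hlt, hV'W.trans hWS, fun g hg => mem_normalizer_iff.2 fun x =>
          ⟨hconj g hg x, fun hx => by
            have := hconj g⁻¹ (inv_mem hg) _ hx
            simpa [mul_assoc] using this⟩, fun w hw => hWc w (hV'W hw)⟩
        have hWV := hWmin hPV hV'W
        rw [eq_top_iff]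
        intro q _
        obtain ⟨w, rfl⟩ := QuotientGroup.mk'_surjective _ q
        obtain ⟨w', hw', he⟩ := hWV w.2
        rwa [show w' = w from Subtype.ext he] at hw'
    refine ⟨a₀, a₀.2, fun h hh => ?_⟩
    obtain ⟨i, hi⟩ := ha₀ ⟨h, hh⟩
    have h1 : φ (⟨h, hh⟩ * (a₀ ^ i)⁻¹) = 1 := by
      rw [map_mul, map_inv, map_zpow, hi, mul_inv_cancel]
    have h2 := hker _ h1
    rw [show h = (((⟨h, hh⟩ : H) * (a₀ ^ i)⁻¹ : H) : Γ) * (a₀ : Γ) ^ i by simp]
    exact mul_mem (mem_sup_left h2) (mem_sup_right (zpow_mem_zpowers _ _))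
  -- the fixed points
  let W' : Subgroup Γ := W ⊓ centralizer (H₁ : Set Γ)
  have hpW : IsPGroup p W := d.hS.to_le hWS
  have hH₁cop : ¬ p ∣ Nat.card H₁ := fun h => d.hH (h.trans (card_dvd_of_le hH₁H))
  have hWdec : ∀ w ∈ W, ∃ w' ∈ W', w⁻¹ * w' ∈ S₀ := by
    intro w hw
    obtain ⟨c, hc, hcw⟩ := Coprime.exists_fixed_mem_coset (A := H₁) (K := W) (N := S₀)
      (hH₁H.trans hHN₀) (by
        obtain ⟨j, hj⟩ := IsPGroup.iff_card.1 (d.hS.to_le hS₀)
        rw [hj]
        exact ((hp.out.coprime_iff_not_dvd.2 hH₁cop).pow_left j).symm)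
      (Or.inr (by
        haveI := (d.hS.to_le hS₀).isNilpotent
        infer_instance)) hS₀W.le hw (fun a ha => by
        have h1 := (mem_normalizer_iff.1 (hSN₀ (inv_mem (hWS hw))) _).1 (ha.2 w hw)
        convert h1 using 1
        group)
    exact ⟨c, hc, hcw⟩
  have hW'W : W' ≤ W := inf_le_left
  have hpW' : IsPGroup p W' := hpW.to_le hW'W
  have hWK : W ≤ normalizer (K : Set Γ) := hWS.trans d.SnormK
  have hW'K : W' ≤ normalizer (K : Set Γ) := hW'W.trans hWK
  let D : Subgroup Γ := K ⊓ centralizer (W : Set Γ)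
  have hDK : D ≤ K := inf_le_left
  have hDW : ∀ w ∈ W, ∀ x ∈ D, w * x * w⁻¹ = x := fun w hw x hx => by
    rw [show w * x = x * w from mem_centralizer_iff.1 hx.2 w hw, mul_inv_cancel_right]
  have hD' : ∀ k, k ∈ D ↔ k ∈ K ∧ ∀ w ∈ W', w * k * w⁻¹ = k := by
    intro k
    refine ⟨fun hk => ⟨hk.1, fun w hw => hDW w (hW'W hw) k hk⟩, fun hk => ⟨hk.1,
      mem_centralizer_iff.2 fun w hw => ?_⟩⟩
    obtain ⟨w', hw', hww⟩ := hWdec w hw
    have hs : ∀ x ∈ K, (w⁻¹ * w') * x * (w⁻¹ * w')⁻¹ = x := htriv _ hww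
    have h1 := hk.2 w' hw'
    have h2 : w * k * w⁻¹ = k := by
      conv_lhs => rw [← hs k hk.1]
      rw [show w * (w⁻¹ * w' * k * (w⁻¹ * w')⁻¹) * w⁻¹ = w' * k * w'⁻¹ by group, h1]
    calc w * k = w * k * w⁻¹ * w := by group
      _ = k * w := by rw [h2]
  have hnD : ∀ g, g ∈ normalizer (K : Set Γ) → g ∈ normalizer (W : Set Γ) →
      g ∈ normalizer (D : Set Γ) := by
    intro g h1 h2
    have hconj : ∀ g, g ∈ normalizer (K : Set Γ) → g ∈ normalizer (W : Set Γ) → ∀ x ∈ D,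
        g * x * g⁻¹ ∈ D := fun g h1 h2 x hx =>
      ⟨(mem_normalizer_iff.1 h1 x).1 hx.1, mem_centralizer_iff.2 fun w hw => by
        have h3 := mem_centralizer_iff.1 hx.2 _ ((mem_normalizer_iff.1 (inv_mem h2) w).1 hw)
        calc w * (g * x * g⁻¹) = g * (g⁻¹ * w * g⁻¹⁻¹ * x) * g⁻¹ := by group
          _ = g * (x * (g⁻¹ * w * g⁻¹⁻¹)) * g⁻¹ := by rw [h3]
          _ = g * x * g⁻¹ * w := by group⟩
    refine mem_normalizer_iff.2 fun x => ⟨hconj g h1 h2 x, fun hx => ?_⟩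
    have := hconj g⁻¹ (inv_mem h1) (inv_mem h2) _ hx
    simpa [mul_assoc] using this
  have hSD : S ≤ normalizer (D : Set Γ) := fun s hs => hnD s (d.SnormK hs) (hSW hs)
  have hHD : H ≤ normalizer (D : Set Γ) := fun s hs => hnD s (d.HnormK hs) (hHW hs)
  have hCD : C ≤ D := fun c hc => ⟨d.CK hc, mem_centralizer_iff.2 fun w hw => by
    have h1 := ((d.fix c).1 hc).2 w (hWS hw)
    calc w * c = w * c * w⁻¹ * w := by group
      _ = c * w := by rw [h1]⟩
  have dD : KData p S H D C :=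
    { hS := d.hS, hH := d.hH, normS := d.normS, ab := d.ab, CH := d.CH
      hK := fun h => d.hK (h.trans (card_dvd_of_le hDK))
      SnormK := hSD, HnormK := hHD
      fix := fun k => ⟨fun hk => ⟨hCD hk, ((d.fix k).1 hk).2⟩,
        fun hk => (d.fix k).2 ⟨hDK hk.1, hk.2⟩⟩
      inter := fun x hx => d.inter ⟨hx.1, hDK hx.2⟩ }
  let A : Subgroup Γ := K ⊔ H₁
  let B : Subgroup Γ := D ⊔ H₁
  have hBA : B ≤ A := sup_le_sup_right hDK H₁
  have hW'H₁ : ∀ w ∈ W', ∀ x ∈ H₁, w * x * w⁻¹ = x := fun w hw x hx => by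
    rw [show w * x = x * w from (mem_centralizer_iff.1 hw.2 x hx).symm, mul_inv_cancel_right]
  have hdecA : ∀ a ∈ A, ∃ k ∈ K, ∃ x ∈ H₁, k * x = a := fun a ha => by
    obtain ⟨k, hk, x, hx, he⟩ := Coprime.exists_mul_of_mem_sup' (hH₁H.trans d.HnormK)
      (g := a) (by rw [sup_comm]; exact ha)
    exact ⟨k, hk, x, hx, he.symm⟩
  have hW'A : W' ≤ normalizer (A : Set Γ) := by
    have hconj : ∀ w ∈ W', ∀ a ∈ A, w * a * w⁻¹ ∈ A := fun w hw a ha => by
      obtain ⟨k, hk, x, hx, rfl⟩ := hdecA a ha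
      rw [show w * (k * x) * w⁻¹ = w * k * w⁻¹ * (w * x * w⁻¹) by group, hW'H₁ w hw x hx]
      exact mul_mem (mem_sup_left ((mem_normalizer_iff.1 (hW'K hw) k).1 hk)) (mem_sup_right hx)
    intro w hw
    refine mem_normalizer_iff.2 fun a => ⟨hconj w hw a, fun ha => ?_⟩
    have := hconj w⁻¹ (inv_mem hw) _ ha
    simpa [mul_assoc] using this
  have hA : ¬ p ∣ Nat.card A := not_dvd_card_sup (hH₁H.trans d.HnormK) d.hK hH₁cop
  have hBfix : ∀ a, a ∈ B ↔ a ∈ A ∧ ∀ w ∈ W', w * a * w⁻¹ = a := by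
    intro a
    constructor
    · refine fun ha => ⟨hBA ha, fun w hw => ?_⟩
      have : B ≤ centralizer ({w} : Set Γ) := sup_le
        (fun x hx => mem_centralizer_singleton_iff.2 (by
          have h1 := hDW w (hW'W hw) x hx
          calc x * w = w * x * w⁻¹ * w := by rw [h1]
            _ = w * x := by group))
        (fun x hx => mem_centralizer_singleton_iff.2 (mem_centralizer_iff.1 hw.2 x hx))
      rw [← mem_centralizer_singleton_iff.1 (this ha), mul_inv_cancel_right]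
    · rintro ⟨ha, hfix⟩
      obtain ⟨k, hk, x, hx, rfl⟩ := hdecA a ha
      refine mul_mem (mem_sup_left ((hD' k).2 ⟨hk, fun w hw => ?_⟩)) (mem_sup_right hx)
      have h1 := hfix w hw
      rw [show w * (k * x) * w⁻¹ = w * k * w⁻¹ * (w * x * w⁻¹) by group, hW'H₁ w hw x hx] at h1
      exact mul_right_cancel h1
  have M₀ := glau_matching hpW' hW'K d.hK hDK hD'
  have M₁ := glau_matching hpW' hW'A hA hBA hBfix
  have hθW : ∀ w ∈ W', FixBy w θ := fun w hw => hθS w (hWS (hW'W hw))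
  obtain ⟨θ', -, hθ'⟩ := M₀.exists_left θ hθW
  have hθ'fix : ∀ g, g ∈ normalizer (K : Set Γ) → g ∈ normalizer (W : Set Γ) → FixBy g θ →
      FixBy g θ' := by
    intro g h1 h2 h3
    rw [fixBy_iff (hnD g h1 h2)]
    refine M₀.unique_right θ _ θ' hθW trivial trivial ?_ hθ'
    rw [← (fixBy_iff h1 θ).1 h3]
    rwa [rmult_cjI]
  have hθ'S : ∀ s ∈ S, FixBy s θ' := fun s hs => hθ'fix s (d.SnormK hs) (hSW hs) (hθS s hs)
  have hθ'H : ∀ s ∈ H, FixBy s θ' := fun s hs => hθ'fix s (d.HnormK hs) (hHW hs) (hθH s hs)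
  have hθ's : ¬ p ∣ rmult dD.CK θ' θs := by
    intro hd
    apply hθs
    rw [← ZMod.natCast_eq_zero_iff, show rmult d.CK θ θs = rmult (dD.CK.trans hDK) θ θs from rfl,
      rmult_mod_eq dD.CK hDK θ θs θ' (fun φ hφ => dvd_mul_of_dvd_left (by_contra fun hn =>
        hφ (M₀.unique_right θ φ θ' hθW trivial trivial hn hθ')) _),
      ZMod.natCast_eq_zero_iff]
    exact dvd_mul_of_dvd_right hd _
  have hlt : W.relIndex S < n := by
    rw [← hn, ← relIndex_mul_relIndex S₀ W S hS₀W.le hWS]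
    have h1 : S₀.relIndex W ≠ 1 := fun h => hS₀W.not_ge (relIndex_eq_one.1 h)
    have h2 : S₀.relIndex W ≠ 0 := (S₀.subgroupOf W).index_ne_zero_of_finite
    have h3 : W.relIndex S ≠ 0 := (W.subgroupOf S).index_ne_zero_of_finite
    exact lt_mul_of_one_lt_left (Nat.pos_of_ne_zero h3) (by omega)
  rw [← ih _ hlt dD W hWS hSW hHW hDW rfl θ' hθ'S hθ'H θs hθ's]
  -- passage between `θ` and `θ'`
  have hnA : ∀ g, g ∈ H → g ∈ normalizer (A : Set Γ) ∧ g ∈ normalizer (B : Set Γ) := fun g hg =>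
    ⟨normalizer_le_sup K H₁ g (d.HnormK hg) (hH₁n hg),
      normalizer_le_sup D H₁ g (hHD hg) (hH₁n hg)⟩
  have hKA : K ≤ A := le_sup_left
  have hDB : D ≤ B := le_sup_left
  have habA : AbMod K A := abMod_sup (hH₁H.trans d.HnormK)
    fun a ha b hb => d.CK (d.ab a (hH₁H ha) b (hH₁H hb))
  have habB : AbMod D B := abMod_sup (hH₁H.trans hHD)
    fun a ha b hb => hCD (d.ab a (hH₁H ha) b (hH₁H hb))
  have hidx : K.relIndex A = D.relIndex B := by
    rw [relIndex_sup_eq (hH₁H.trans d.HnormK), relIndex_sup_eq (hH₁H.trans hHD)]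
    have h1 : K.subgroupOf H₁ = D.subgroupOf H₁ := by
      ext x
      exact ⟨fun hx => hCD (d.inter ⟨hH₁H x.2, hx⟩), fun hx => hDK hx⟩
    unfold relIndex
    rw [h1]
  have hinvA : ∀ g ∈ A, FixBy g θ := fun g hg =>
    ((sup_le (le_stab_self θ) (fun x hx => ⟨d.HnormK (hH₁H hx), hθH x (hH₁H hx)⟩) :
      A ≤ stab θ) hg).2
  have hinvB : ∀ g ∈ B, FixBy g θ' := fun g hg =>
    ((sup_le (le_stab_self θ') (fun x hx => ⟨hHD (hH₁H hx), hθ'H x (hH₁H hx)⟩) :
      B ≤ stab θ') hg).2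
  haveI := finite_trivHoms hKA
  haveI := finite_trivHoms hDB
  have hAH : A ≤ K ⊔ H := sup_le_sup_left hH₁H K
  have hBH : B ≤ D ⊔ H := sup_le_sup_left hH₁H D
  constructor
  · rintro ⟨χ, hχ⟩
    obtain ⟨η₁, hχη, hη₁⟩ := Restr.exists_mid hKA hAH (θ := θ) hχ
    have hη₁H : ∀ h ∈ H, FixBy h η₁ := fun h hh => fixBy_restr hχη
      (fixBy_of_mem (mem_sup_right hh) χ)
    -- all extensions are fixed by `W'`
    have hall : ∀ η : IrrCharacter A, Restr hKA η θ → ∀ w ∈ W', FixBy w η := by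
      let E := {η : IrrCharacter A // Restr hKA η θ}
      have hE : Nat.card E = K.relIndex A := by
        rw [← card_trivHoms habA]
        refine (Nat.card_eq_of_bijective
          (fun f : trivHoms hKA => (⟨twist η₁ f.1, restr_twist hη₁ f.2⟩ : E)) ⟨fun f g h => Subtype.ext
            (twist_inj (habA.normal hKA) hη₁ f.2 g.2 (congrArg Subtype.val h)),
          fun η => ?_⟩).symm
        obtain ⟨f, hf, he⟩ := exists_twist habA hη₁ (χ := η.1)
          (by rw [Restr.rmult_one η.2]; exact one_ne_zero)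
        exact ⟨⟨f, hf⟩, Subtype.ext he.symm⟩
      obtain ⟨η₀, hη₀, hη₀W⟩ : ∃ η₀, Restr hKA η₀ θ ∧ ∀ w ∈ W', FixBy w η₀ := by
        by_contra hcon
        push Not at hcon
        haveI : NeZero p := ⟨hp.out.ne_zero⟩
        set φ := conjAct W' A hW'A
        let f : IrrCharacter A → ℂ := fun η => if Restr hKA η θ then 1 else 0
        have hperm : ∀ a η, Restr hKA η θ → Restr hKA (irrPerm φ a η) θ := by
          intro a η hη k
          show (η : A → ℂ) (φ a⁻¹ (inclusion hKA k)) = _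
          have hm : ((a⁻¹ : W') : Γ) * k * ((a⁻¹ : W') : Γ)⁻¹ ∈ K :=
            (mem_normalizer_iff.1 (hW'K (a⁻¹).2) k).1 k.2
          rw [← hθW _ (a⁻¹).2 k ⟨_, hm⟩ rfl, ← hη ⟨_, hm⟩]
          exact irr_apply_congr η rfl
        have hf : ∀ a η, f (irrPerm φ a η) = f η := by
          intro a η
          have hiff : Restr hKA (irrPerm φ a η) θ ↔ Restr hKA η θ := ⟨fun h => by
            have := hperm a⁻¹ _ h
            rwa [← Equiv.Perm.mul_apply, ← map_mul, inv_mul_cancel, map_one] at this, hperm a η⟩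
          simp only [f, hiff]
        letI := Fintype.ofFinite (IrrCharacter A)
        have hsum := sum_congr_fixed hpW' (irrPerm φ) f (fun η => by
          simp only [f]; split_ifs <;> [exact isIntegral_one; exact isIntegral_zero]) hf
        rw [Finset.sum_eq_zero (s := Finset.univ.filter _) fun η hη => if_neg fun h => by
          obtain ⟨w, hw, hn⟩ := hcon η h
          refine hn fun k k' he => ?_
          rw [← (irrPerm_fixed_iff φ η).1 (Finset.mem_filter.1 hη).2 ⟨w, hw⟩ k]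
          exact irr_apply_congr η he] at hsum
        simp only [f, Finset.sum_boole] at hsum
        have hd := Congr.nat_dvd hsum
        rw [show (Finset.univ.filter fun η => Restr hKA η θ).card = Nat.card E by
          rw [Nat.card_eq_fintype_card, Fintype.card_subtype], hE,
          relIndex_sup_eq (hH₁H.trans d.HnormK)] at hd
        exact hH₁cop (hd.trans (relIndex_dvd_card K H₁))
      intro η hη w hw k k' he
      obtain ⟨f, hf, rfl⟩ := exists_twist habA hη₀ (χ := η)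
        (by rw [Restr.rmult_one hη]; exact one_ne_zero)
      rw [twist_coe, twist_coe, hη₀W w hw k k' he]
      congr 2
      obtain ⟨k₁, hk₁, x, hx, hkx⟩ := hdecA k k.2
      have hk₂ := (mem_normalizer_iff.1 (hW'K hw) k₁).1 hk₁
      have e1 : k = inclusion hKA ⟨k₁, hk₁⟩ * ⟨x, mem_sup_right hx⟩ := Subtype.ext hkx.symm
      have e2 : k' = inclusion hKA ⟨_, hk₂⟩ * ⟨x, mem_sup_right hx⟩ := Subtype.ext (by
        rw [he, ← hkx]
        show w * (k₁ * x) * w⁻¹ = w * k₁ * w⁻¹ * x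
        conv_rhs => rw [← hW'H₁ w hw x hx]
        group)
      rw [e1, e2, map_mul, map_mul, hf, hf]
    let F : trivHoms hKA → IrrCharacter A := fun f => twist η₁ f.1
    have hFr : ∀ f, Restr hKA (F f) θ := fun f => restr_twist hη₁ f.2
    choose G hG hGm using fun f => M₁.exists_left (F f) (hall _ (hFr f))
    have hGinj : Function.Injective G := fun f g h => Subtype.ext
      (twist_inj (habA.normal hKA) hη₁ f.2 g.2
        (M₁.unique_left (F f) (F g) (G f) (hall _ (hFr f)) (hall _ (hFr g)) trivial (hGm f)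
          (h ▸ hGm g)))
    have hGover : ∀ f, rmult hDB (G f) θ' ≠ 0 := by
      intro f hz
      have hsq := square_congr (η' := G f) hpW' hDK hKA hDB hBA hW'K hW'A
        (fun w hw x hx => hDW w (hW'W hw) x hx) (hall _ (hFr f)) hθW θ'
        (fun ψ hψ => by_contra fun hn =>
          hψ (M₁.unique_right (F f) ψ (G f) (hall _ (hFr f)) trivial trivial hn (hGm f)))
        (fun φ hφW hφ => by_contra fun hn =>
          hφ (M₀.unique_left φ θ θ' hφW hθW trivial hn hθ'))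
      rw [(hFr f).rmult_one, hz, Nat.cast_zero, mul_zero, Nat.cast_one, one_mul,
        ZMod.natCast_eq_zero_iff] at hsq
      exact hθ' hsq
    have hGext := all_extend hDB (habB.normal hDB) hinvB G hGinj hGover
      (le_of_eq (hidx.symm.trans (card_trivHoms (hKL := hKA) habA).symm))
    let f₁ : trivHoms hKA := ⟨1, fun _ => rfl⟩
    have hF₁ : F f₁ = η₁ := Subtype.ext (funext fun x => by simp [F, f₁, twist_coe])
    have hH₀ : FixBy h₀ (G f₁) := by
      rw [fixBy_iff (hnA h₀ hh₀).2]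
      refine M₁.unique_right (F f₁) _ (G f₁) (hall _ (hFr f₁)) trivial trivial ?_ (hGm f₁)
      conv => arg 1; arg 2; rw [← (fixBy_iff (hnA h₀ hh₀).1 (F f₁)).1 (hF₁ ▸ hη₁H h₀ hh₀)]
      rw [rmult_cjI]
      exact hGm f₁
    obtain ⟨χ', hχ'⟩ := ext_cyclic hBH (sup_le (hDB.trans le_normalizer)
      fun g hg => (hnA g hg).2) h₀ (mem_sup_right hh₀)
      (sup_le (hDB.trans le_sup_left) (hgen.trans (sup_le_sup_right le_sup_right _))) hH₀
    exact ⟨χ', Restr.trans hχ' (hGext f₁)⟩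
  · rintro ⟨χ, hχ⟩
    obtain ⟨ζ₁, hχζ, hζ₁⟩ := Restr.exists_mid hDB hBH (θ := θ') hχ
    have hζ₁H : ∀ h ∈ H, FixBy h ζ₁ := fun h hh => fixBy_restr hχζ
      (fixBy_of_mem (mem_sup_right hh) χ)
    let G : trivHoms hDB → IrrCharacter B := fun f => twist ζ₁ f.1
    have hGr : ∀ f, Restr hDB (G f) θ' := fun f => restr_twist hζ₁ f.2
    choose F hF hFm using fun f => M₁.exists_right (G f) trivial
    have hFinj : Function.Injective F := fun f g h => Subtype.ext
      (twist_inj (habB.normal hDB) hζ₁ f.2 g.2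
        (M₁.unique_right (F f) (G f) (G g) (hF f) trivial trivial (hFm f) (h ▸ hFm g)))
    have hFover : ∀ f, rmult hKA (F f) θ ≠ 0 := by
      intro f hz
      have hsq := square_congr (η' := G f) hpW' hDK hKA hDB hBA hW'K hW'A
        (fun w hw x hx => hDW w (hW'W hw) x hx) (hF f) hθW θ'
        (fun ψ hψ => by_contra fun hn =>
          hψ (M₁.unique_right (F f) ψ (G f) (hF f) trivial trivial hn (hFm f)))
        (fun φ hφW hφ => by_contra fun hn =>
          hφ (M₀.unique_left φ θ θ' hφW hθW trivial hn hθ'))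
      rw [(hGr f).rmult_one, hz, Nat.cast_zero, zero_mul, Nat.cast_one, mul_one, eq_comm,
        ZMod.natCast_eq_zero_iff] at hsq
      exact hFm f hsq
    have hFext := all_extend hKA (habA.normal hKA) hinvA F hFinj hFover
      (le_of_eq (hidx.trans (card_trivHoms (hKL := hDB) habB).symm))
    let f₁ : trivHoms hDB := ⟨1, fun _ => rfl⟩
    have hG₁ : G f₁ = ζ₁ := Subtype.ext (funext fun x => by simp [G, f₁, twist_coe])
    have hH₀ : FixBy h₀ (F f₁) := by
      rw [fixBy_iff (hnA h₀ hh₀).1]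
      refine M₁.unique_left _ (F f₁) (G f₁) (fun w hw k k' he => ?_) (hF f₁) trivial ?_ (hFm f₁)
      · have hw' : h₀ * w * h₀⁻¹ ∈ W' :=
          ⟨(mem_normalizer_iff.1 (hHW hh₀) w).1 hw.1, mem_centralizer_iff.2 fun x hx => by
            have h3 := mem_centralizer_iff.1 hw.2 _
              ((mem_normalizer_iff.1 (inv_mem (hH₁n hh₀)) x).1 hx)
            calc x * (h₀ * w * h₀⁻¹) = h₀ * (h₀⁻¹ * x * h₀⁻¹⁻¹ * w) * h₀⁻¹ := by group
              _ = h₀ * (w * (h₀⁻¹ * x * h₀⁻¹⁻¹)) * h₀⁻¹ := by rw [h3]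
              _ = h₀ * w * h₀⁻¹ * x := by group⟩
        rw [cjI_coe, cjI_coe]
        refine hF f₁ _ hw' _ _ ?_
        rw [cjE_coe, cjE_coe, he]
        group
      · conv => arg 1; arg 2; rw [← (fixBy_iff (hnA h₀ hh₀).2 (G f₁)).1 (hG₁ ▸ hζ₁H h₀ hh₀)]
        rw [rmult_cjI]
        exact hFm f₁
    obtain ⟨χ', hχ'⟩ := ext_cyclic hAH (sup_le (hKA.trans le_normalizer)
      fun g hg => (hnA g hg).1) h₀ (mem_sup_right hh₀)
      (sup_le (hKA.trans le_sup_left) (hgen.trans (sup_le_sup_right le_sup_right _))) hH₀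
    exact ⟨χ', Restr.trans hχ' (hFext f₁)⟩

end Cfsg.Agent.RelMcKay
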